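import Cfsg.Agent.H736.Co3.Sp
import Cfsg.Agent.H64.Co3.D8I
import Cfsg.Agent.H129.Tor
import Cfsg.Agent.Nodes.RGDOrth

/-!
# S1920: the relation "`M` represents `g` on the natural module of the subsystem" (helper736)
-/

set_option autoImplicit false
set_option linter.unusedSectionVars false

namespace Cfsg.Agent.H736.Co3

open Cfsg.Lie Cfsg.Agent.ChevalleyStructure Cfsg.Agent.ChevalleyStructure.XColumns Matrix
open QuadraticMap
open Cfsg.Agent.LieClassical Cfsg.Agent.LieClassical.OrthCore Cfsg.Agent.LieClassical.OrthForms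

universe u

/-! ### adjoint matrices for the split form -/

section

variable {m : ℕ} {F : Type u} [Field F]

/-- the adjoint of a matrix with respect to the split form -/
def st (A : Matrix (Fin m ⊕ Fin m) (Fin m ⊕ Fin m) F) : Matrix (Fin m ⊕ Fin m) (Fin m ⊕ Fin m) F :=
  fun i j => A j.swap i.swap

theorem polar_eq (x y : Fin m ⊕ Fin m → F) : polar (plusForm m F) x y = ∑ i, x i * y i.swap := by
  rw [polar_plusForm, Fintype.sum_sum_type, ← Finset.sum_add_distrib]
  refine Finset.sum_congr rfl fun i _ => ?_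
  rw [Sum.swap_inl, Sum.swap_inr, mul_comm (y (Sum.inl i))]

theorem sum_swap (f : Fin m ⊕ Fin m → F) : ∑ i : Fin m ⊕ Fin m, f i.swap = ∑ i, f i :=
  Fintype.sum_equiv (Equiv.sumComm _ _) _ _ fun _ => rfl

theorem polar_mulVec (A : Matrix (Fin m ⊕ Fin m) (Fin m ⊕ Fin m) F) (x y : Fin m ⊕ Fin m → F) :
    polar (plusForm m F) (A *ᵥ x) y = polar (plusForm m F) x (st A *ᵥ y) := by
  rw [polar_eq, polar_eq]
  simp only [Matrix.mulVec, dotProduct, Finset.mul_sum, Finset.sum_mul]
  rw [Finset.sum_comm]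
  refine Finset.sum_congr rfl fun i _ => ?_
  rw [← sum_swap]
  refine Finset.sum_congr rfl fun j _ => ?_
  simp only [st, Sum.swap_swap]
  ring

theorem polar_single (i : Fin m ⊕ Fin m) (x : Fin m ⊕ Fin m → F) :
    polar (plusForm m F) (Pi.single i 1) x = x i.swap := by
  rw [polar_eq, Finset.sum_eq_single i]
  · rw [Pi.single_eq_same, one_mul]
  · intro b _ hb
    rw [Pi.single_eq_of_ne hb, zero_mul]
  · intro h; exact absurd (Finset.mem_univ _) h

theorem st_eq_neg_iff (A : Matrix (Fin m ⊕ Fin m) (Fin m ⊕ Fin m) F) :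
    st A = -A ↔ ∀ x y, polar (plusForm m F) (A *ᵥ x) y = -polar (plusForm m F) x (A *ᵥ y) := by
  constructor
  · intro h x y
    rw [polar_mulVec, h, Matrix.neg_mulVec, polar_neg_right]
  · intro h
    ext i j
    have h1 := h (Pi.single i.swap 1) (Pi.single j 1)
    rw [polar_mulVec, polar_single, polar_single, Sum.swap_swap, Matrix.mulVec_single_one, Matrix.mulVec_single_one,
      Matrix.col_apply, Matrix.col_apply] at h1
    exact h1

/-- the dual index -/
def opn (m i : ℕ) : ℕ := if i < m then i + m else i - m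

variable [NeZero m]

theorem ix_opn {i : ℕ} (hi : i < m + m) : ix m (opn m i) = (ix m i).swap := by
  unfold ix opn
  by_cases h : i < m
  · rw [if_pos h, if_pos h, if_neg (by omega), Sum.swap_inl]
    congr 2
    omega
  · rw [if_neg h, if_neg h, if_pos (by omega), Sum.swap_inr]

theorem opn_lt {i : ℕ} (hi : i < m + m) : opn m i < m + m := by
  unfold opn; split_ifs <;> omega

/-- `L` plus its adjoint -/
def skw (m : ℕ) (L : Sp) : Sp := L ++ L.map fun a => (opn m a.2.1, opn m a.1, a.2.2)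

theorem st_add (A B : Matrix (Fin m ⊕ Fin m) (Fin m ⊕ Fin m) F) : st (A + B) = st A + st B := rfl

theorem st_smul (c : F) (A : Matrix (Fin m ⊕ Fin m) (Fin m ⊕ Fin m) F) : st (c • A) = c • st A := rfl

theorem st_single (i j : Fin m ⊕ Fin m) (c : F) : st (Matrix.single i j c) = Matrix.single j.swap i.swap c := by
  ext a b
  rw [st, Matrix.single_apply, Matrix.single_apply]
  congr 1
  rw [eq_iff_iff, and_comm, ← Sum.swap_leftInverse.injective.eq_iff (a := j), ← Sum.swap_leftInverse.injective.eq_iff (a := i),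
    Sum.swap_swap, Sum.swap_swap]

theorem sm_skw {L : Sp} (hL : wf m L = true) : sm m F (skw m L) = sm m F L + st (sm m F L) := by
  rw [skw, sm_append]
  congr 1
  induction L with
  | nil => rfl
  | cons a L ih =>
    have h1 := wf_iff.1 hL
    have h2 : wf m L = true := wf_iff.2 fun x hx => h1 x (List.mem_cons_of_mem _ hx)
    rw [List.map_cons, sm_cons, sm_cons, ih h2, st_add, st_single, ix_opn (h1 a List.mem_cons_self).1,
      ix_opn (h1 a List.mem_cons_self).2]

end

/-! ### the relation -/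

section

/-- the natural module -/
abbrev VT (T : Tb) (F : Type u) : Type u := Fin T.m ⊕ Fin T.m → F

variable (T : Tb) [NeZero T.m] (D : ChevalleyDatum) (F : Type u) [Field F]

/-- `M` represents `g` -/
def Rl (z g : GL D.Idx F) (M : VT T F ≃ₗ[F] VT T F) : Prop :=
  g * z = z * g ∧ ∀ v ∈ Lp T D F, ∀ x, Th T D F ((g : Matrix D.Idx D.Idx F) *ᵥ v) *ᵥ (M x) = M (Th T D F v *ᵥ x)

variable {T D F} {z : GL D.Idx F} (hz : ∀ v, (z : Matrix D.Idx D.Idx F) *ᵥ v = v ↔ v ∈ Lp T D F)

include hz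

theorem Rl.mem {g : GL D.Idx F} (h : g * z = z * g) {v : D.Idx → F} (hv : v ∈ Lp T D F) :
    (g : Matrix D.Idx D.Idx F) *ᵥ v ∈ Lp T D F := by
  rw [← hz, Matrix.mulVec_mulVec, ← Units.val_mul, ← h, Units.val_mul, ← Matrix.mulVec_mulVec, (hz v).2 hv]

theorem Rl.mul {g h : GL D.Idx F} {M N : VT T F ≃ₗ[F] VT T F} (hg : Rl T D F z g M) (hh : Rl T D F z h N) :
    Rl T D F z (g * h) (M * N) := by
  refine ⟨by rw [mul_assoc, hh.1, ← mul_assoc, hg.1, mul_assoc], fun v hv x => ?_⟩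
  rw [Units.val_mul, ← Matrix.mulVec_mulVec]
  have h1 := hg.2 _ (Rl.mem hz hh.1 hv) (N x)
  rw [hh.2 v hv x] at h1
  exact h1

theorem Rl.inv {g : GL D.Idx F} {M : VT T F ≃ₗ[F] VT T F} (hg : Rl T D F z g M) : Rl T D F z g⁻¹ M⁻¹ := by
  have h1 : g⁻¹ * z = z * g⁻¹ := by
    rw [inv_mul_eq_iff_eq_mul, ← mul_assoc, hg.1, mul_assoc, mul_inv_cancel, mul_one]
  refine ⟨h1, fun v hv x => ?_⟩
  have h2 := hg.2 _ (Rl.mem hz h1 hv) (M⁻¹ x)
  rw [Matrix.mulVec_mulVec, ← Units.val_mul, mul_inv_cancel, Units.val_one, Matrix.one_mulVec] at h2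
  have h3 : M (M⁻¹ x) = x := M.apply_symm_apply x
  rw [h3] at h2
  have h4 := congrArg M.symm h2
  rw [LinearEquiv.symm_apply_apply] at h4
  exact h4.symm

omit hz in
theorem Rl.one : Rl T D F z 1 1 :=
  ⟨by rw [one_mul, mul_one], fun v _ x => by rw [Units.val_one, Matrix.one_mulVec]; rfl⟩

omit hz in
theorem Rl.scal {g : GL D.Idx F} {M L : VT T F ≃ₗ[F] VT T F} {c : F} (hg : Rl T D F z g M) (h : ∀ x, L x = c • M x) :
    Rl T D F z g L :=
  ⟨hg.1, fun v hv x => by rw [h, h, Matrix.mulVec_smul, hg.2 v hv]⟩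

/-- the representing pairs, with a similitude -/
def RS : Subgroup (GL D.Idx F × (VT T F ≃ₗ[F] VT T F)) where
  carrier := {p | Rl T D F z p.1 p.2 ∧ ∃ μ : F, μ ≠ 0 ∧ ∀ x, plusForm T.m F (p.2 x) = μ * plusForm T.m F x}
  one_mem' := ⟨Rl.one, 1, one_ne_zero, fun x => (one_mul _).symm⟩
  mul_mem' := by
    rintro ⟨g, M⟩ ⟨h, N⟩ ⟨h1, μ, h2, h3⟩ ⟨h4, ν, h5, h6⟩
    refine ⟨Rl.mul hz h1 h4, μ * ν, mul_ne_zero h2 h5, fun x => ?_⟩
    show plusForm T.m F (M (N x)) = _
    rw [mul_assoc, ← h6, ← h3]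
  inv_mem' := by
    rintro ⟨g, M⟩ ⟨h1, μ, h2, h3⟩
    refine ⟨Rl.inv hz h1, μ⁻¹, inv_ne_zero h2, fun x => ?_⟩
    have h4 := h3 (M⁻¹ x)
    have h5 : M (M⁻¹ x) = x := M.apply_symm_apply x
    rw [h5] at h4
    show plusForm T.m F (M⁻¹ x) = _
    rw [h4, inv_mul_cancel_left₀ h2]

end

/-! ### the root elements -/

section

variable {n : Type*} [Fintype n] [DecidableEq n] {F : Type u} [Field F]

/-- the map `x ↦ x + a E x` -/
def tv (E : Matrix n n F) (hE : E * E = 0) (a : F) : (n → F) ≃ₗ[F] (n → F) :=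
  LinearEquiv.ofLinearMap (Matrix.mulVecLin (1 + a • E)) (Matrix.mulVecLin (1 - a • E))
    (by
      rw [← Matrix.mulVecLin_mul, ← Matrix.mulVecLin_one]
      congr 1
      rw [add_mul, mul_sub, mul_sub, one_mul, mul_one, one_mul, smul_mul_smul_comm, hE, smul_zero]
      abel)
    (by
      rw [← Matrix.mulVecLin_mul, ← Matrix.mulVecLin_one]
      congr 1
      rw [sub_mul, mul_add, mul_add, one_mul, mul_one, one_mul, smul_mul_smul_comm, hE, smul_zero]
      abel)

theorem tv_apply {E : Matrix n n F} (hE : E * E = 0) (a : F) (x : n → F) : tv E hE a x = x + a • E *ᵥ x := by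
  show (1 + a • E) *ᵥ x = _
  rw [Matrix.add_mulVec, Matrix.one_mulVec, Matrix.smul_mulVec]

end

section

variable {m : ℕ} {F : Type u} [Field F]

theorem polar_self (x : Fin m ⊕ Fin m → F) : polar (plusForm m F) x x = 2 * plusForm m F x := by
  rw [polar, ← two_smul F x, QuadraticMap.map_smul, smul_eq_mul]; ring

theorem tv_iso (h2 : (2 : F) ≠ 0) {E : Matrix (Fin m ⊕ Fin m) (Fin m ⊕ Fin m) F} (hE : E * E = 0) (hs : st E = -E) (a : F)
    (x : Fin m ⊕ Fin m → F) : plusForm m F (tv E hE a x) = plusForm m F x := by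
  have h1 := (st_eq_neg_iff E).1 hs
  have h3 : polar (plusForm m F) x (a • E *ᵥ x) = 0 := by
    rw [polar_smul_right]
    have h4 := h1 x x
    rw [polar_comm (plusForm m F) (E *ᵥ x), eq_neg_iff_add_eq_zero, ← two_mul] at h4
    rw [(mul_eq_zero.1 h4).resolve_left h2, smul_zero]
  have h5 : plusForm m F (E *ᵥ x) = 0 := by
    have h6 := h1 x (E *ᵥ x)
    rw [Matrix.mulVec_mulVec, hE, Matrix.zero_mulVec, polar_zero_right, neg_zero, polar_self] at h6
    exact (mul_eq_zero.1 h6).resolve_left h2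
  rw [tv_apply, QuadraticMap.map_add (plusForm m F) x, h3, add_zero, QuadraticMap.map_smul, h5, smul_zero, add_zero]

end

section

variable {T : Tb} [NeZero T.m] {D : ChevalleyDatum} {F : Type u} [Field F]

theorem Tb.Ok.EE (O : T.Ok D) {r : ℕ} (hr : T.In r = true) : sm T.m F (T.E r) * sm T.m F (T.E r) = 0 := by
  rw [← sm_mulS F (O.wfE r) (O.wfE r), sm_zr F (wf_mulS (O.wfE r) (O.wfE r)) (O.sq r hr)]

theorem Tb.Ok.Rl_root (O : T.Ok D) {z g : GL D.Idx F} {r : ℕ} (hr : T.In r = true) {a : F}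
    (hg : (g : Matrix D.Idx D.Idx F) = D.x F r a) (hgz : g * z = z * g) : Rl T D F z g (tv _ (O.EE hr) a) := by
  refine ⟨hgz, fun v hv x => ?_⟩
  rw [hg, (O.root hr a hv).2]
  show ((1 + a • sm T.m F (T.E r)) * Th T D F v * (1 - a • sm T.m F (T.E r))) *ᵥ ((1 + a • sm T.m F (T.E r)) *ᵥ x) =
    (1 + a • sm T.m F (T.E r)) *ᵥ (Th T D F v *ᵥ x)
  have h1 : (1 - a • sm T.m F (T.E r)) * (1 + a • sm T.m F (T.E r)) = 1 := by
    rw [sub_mul, mul_add, mul_add, one_mul, mul_one, one_mul, smul_mul_smul_comm, O.EE hr, smul_zero]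
    abel
  rw [Matrix.mulVec_mulVec, mul_assoc, h1, mul_one, Matrix.mulVec_mulVec]

end

/-! ### the torus -/

section

variable {n : Type*} {F : Type u} [Field F]

/-- a diagonal map -/
def dm (d : n → F) (hd : ∀ i, d i ≠ 0) : (n → F) ≃ₗ[F] (n → F) where
  toFun x i := d i * x i
  map_add' x y := by funext i; exact mul_add _ _ _
  map_smul' c x := by
    funext i
    show d i * (c * x i) = c * (d i * x i)
    ring
  invFun x i := (d i)⁻¹ * x i
  left_inv x := by funext i; exact inv_mul_cancel_left₀ (hd i) _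
  right_inv x := by funext i; exact mul_inv_cancel_left₀ (hd i) _

theorem dm_apply {d : n → F} (hd : ∀ i, d i ≠ 0) (x : n → F) (i : n) : dm d hd x i = d i * x i := rfl

end

section

variable {m : ℕ} [NeZero m] {F : Type u} [Field F]

theorem sm_dm {L : Sp} {d : Fin m ⊕ Fin m → F} {χ : F} (h : ∀ a ∈ L, χ * d (ix m a.2.1) = d (ix m a.1))
    (x : Fin m ⊕ Fin m → F) (k : Fin m ⊕ Fin m) :
    χ * (sm m F L *ᵥ fun i => d i * x i) k = d k * (sm m F L *ᵥ x) k := by
  induction L with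
  | nil => simp
  | cons a L ih =>
    rw [sm_cons, Matrix.add_mulVec, Matrix.add_mulVec, Pi.add_apply, Pi.add_apply, mul_add, mul_add,
      ih fun b hb => h b (List.mem_cons_of_mem _ hb), Matrix.single_mulVec, Matrix.single_mulVec]
    congr 1
    by_cases hk : k = ix m a.1
    · subst hk
      rw [Function.update_self, Function.update_self, ← h a List.mem_cons_self]
      ring
    · rw [Function.update_of_ne hk, Function.update_of_ne hk, Pi.zero_apply, mul_zero, mul_zero]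

/-- the number of an index -/
def nx (m : ℕ) : Fin m ⊕ Fin m → ℕ := Sum.elim (fun i => i.val) (fun i => i.val + m)

theorem nx_ix {i : ℕ} (hi : i < m + m) : nx m (ix m i) = i := by
  unfold nx ix
  by_cases h : i < m
  · rw [if_pos h, Sum.elim_inl, Fin.val_ofNat, Nat.mod_eq_of_lt h]
  · rw [if_neg h, Sum.elim_inr, Fin.val_ofNat, Nat.mod_eq_of_lt (by omega)]
    omega

theorem nx_lt (i : Fin m ⊕ Fin m) : nx m i < m + m := by
  unfold nx
  rcases i with i | i
  · rw [Sum.elim_inl]; omega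
  · rw [Sum.elim_inr]; omega

theorem ix_nx (i : Fin m ⊕ Fin m) : ix m (nx m i) = i := by
  unfold nx ix
  rcases i with i | i
  · rw [Sum.elim_inl, if_pos i.2]
    congr 1
    exact Fin.ext (by rw [Fin.val_ofNat, Nat.mod_eq_of_lt i.2])
  · rw [Sum.elim_inr, if_neg (by omega)]
    congr 1
    exact Fin.ext (by rw [Fin.val_ofNat, Nat.add_sub_cancel, Nat.mod_eq_of_lt i.2])

theorem nx_swap (i : Fin m ⊕ Fin m) : nx m i.swap = opn m (nx m i) := by
  unfold nx opn
  rcases i with i | i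
  · rw [Sum.swap_inl, Sum.elim_inl, Sum.elim_inr, if_pos i.2]
  · rw [Sum.swap_inr, Sum.elim_inl, Sum.elim_inr, if_neg (by omega), Nat.add_sub_cancel]

end

/-! ### more checks -/

/-- an entry of the table of exponents -/
def exf (ex : List (List ℤ)) (k i : ℕ) : ℤ := (ex.getD k []).getD i 0

/-- `L = ± (single i j - single j' i')` -/
def isA (m : ℕ) (L : Sp) (i j : ℕ) : Bool :=
  zr (L ++ [(i, j, -1), (opn m j, opn m i, 1)]) || zr (L ++ [(i, j, 1), (opn m j, opn m i, -1)])

/-- further facts on the tables -/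
structure Tb.Ok2 (T : Tb) (D : ChevalleyDatum) (ex : List (List ℤ)) : Prop where
  dE : ∀ r, T.In r = true → ∀ a ∈ T.E r, ∀ k < D.rank, exf ex k a.1 = D.cartan k r + exf ex k a.2.1
  dH : ∀ i < D.rank, ∀ a ∈ T.H i, a.1 = a.2.1
  mu : ∀ k < D.rank, ∀ i < T.m, exf ex k i + exf ex k (i + T.m) = exf ex k 0 + exf ex k T.m
  skE : ∀ r, T.In r = true → zr (skw T.m (T.E r)) = true
  skH : ∀ i < D.rank, zr (skw T.m (T.H i)) = true
  hit : ∀ i < T.m + T.m, ∀ j < T.m + T.m, i ≠ j → i ≠ opn T.m j → ∃ r, T.In r = true ∧ isA T.m (T.E r) i j = true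

section

variable {T : Tb} [NeZero T.m] {D : ChevalleyDatum} {F : Type u} [Field F] {ex : List (List ℤ)}

theorem wf_skw {m : ℕ} [NeZero m] {L : Sp} (hL : wf m L = true) : wf m (skw m L) = true := by
  rw [skw, wf_append]
  refine ⟨hL, wf_iff.2 fun x hx => ?_⟩
  obtain ⟨a, ha, rfl⟩ := List.mem_map.1 hx
  exact ⟨opn_lt (wf_iff.1 hL a ha).2, opn_lt (wf_iff.1 hL a ha).1⟩

theorem st_of_skw {m : ℕ} [NeZero m] {L : Sp} (hL : wf m L = true) (h : zr (skw m L) = true) : st (sm m F L) = -sm m F L := by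
  have h1 := sm_zr F (wf_skw hL) h
  rw [sm_skw hL] at h1
  rw [eq_neg_iff_add_eq_zero, add_comm, h1]

theorem Tb.Ok2.stE (P : T.Ok2 D ex) (O : T.Ok D) {r : ℕ} (hr : T.In r = true) : st (sm T.m F (T.E r)) = -sm T.m F (T.E r) :=
  st_of_skw (O.wfE r) (P.skE r hr)

theorem Tb.Ok2.stH (P : T.Ok2 D ex) (O : T.Ok D) {i : ℕ} (hi : i < D.rank) : st (sm T.m F (T.H i)) = -sm T.m F (T.H i) :=
  st_of_skw (O.wfH i) (P.skH i hi)

/-- the values of `Th` are skew -/
theorem Tb.Ok2.stTh (P : T.Ok2 D ex) (O : T.Ok D) {v : D.Idx → F} (hv : v ∈ Lp T D F) : st (Th T D F v) = -Th T D F v := by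
  refine Lp_ind (P := fun v => st (Th T D F v) = -Th T D F v) ?_ ?_ ?_ ?_ ?_ hv
  · rw [map_zero, neg_zero]; rfl
  · intro v w h1 h2
    rw [map_add, st_add, h1, h2, neg_add]
  · intro c v h1
    rw [map_smul, st_smul, h1, smul_neg]
  · intro i hi
    rw [Th_hv T D F hi, P.stH O hi]
  · intro s hs hsi
    rw [Th_ev T D F hs, st_smul, P.stE O hsi, smul_neg]

theorem diag_hv {t : Matrix D.Idx D.Idx F} {χ : Fin D.nroots → F}
    (ht : t = Matrix.diagonal (Sum.elim (fun _ => (1 : F)) χ)) (i : ℕ) : t *ᵥ hv D F i = hv D F i := by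
  rw [ht]
  funext a
  rw [Matrix.mulVec_diagonal]
  rcases a with a | a
  · rw [Sum.elim_inl, one_mul]
  · rw [hv_inr, mul_zero]

theorem diag_ev {t : Matrix D.Idx D.Idx F} {χ : ℕ → F}
    (ht : t = Matrix.diagonal (Sum.elim (fun _ => (1 : F)) (fun s : Fin D.nroots => χ s))) (s : ℕ) :
    t *ᵥ ev D F s = χ s • ev D F s := by
  rw [ht]
  funext a
  rw [Matrix.mulVec_diagonal, Pi.smul_apply, smul_eq_mul]
  rcases a with a | a
  · rw [Sum.elim_inl, ev_inl, mul_zero, mul_zero]
  · rw [Sum.elim_inr, ev_inr]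
    by_cases h : a.val = s
    · rw [if_pos h, h]
    · rw [if_neg h, mul_zero, mul_zero]

/-- the elements of the torus are represented -/
theorem Tb.Ok2.torus (P : T.Ok2 D ex) (O : T.Ok D) {z t : GL D.Idx F} {c : ℕ → F} (hc : ∀ i < D.rank, c i ≠ 0)
    (ht : (t : Matrix D.Idx D.Idx F) = Matrix.diagonal (Sum.elim (fun _ => (1 : F))
      (fun s : Fin D.nroots => ∏ i ∈ Finset.range D.rank, c i ^ D.cartan i s))) (htz : t * z = z * t) :
    ∃ M, Rl T D F z t M ∧ ∃ μ : F, μ ≠ 0 ∧ ∀ x, plusForm T.m F (M x) = μ * plusForm T.m F x := by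
  set d : Fin T.m ⊕ Fin T.m → F := fun i => ∏ k ∈ Finset.range D.rank, c k ^ exf ex k (nx T.m i) with hd
  set χ : ℕ → F := fun s => ∏ i ∈ Finset.range D.rank, c i ^ D.cartan i s with hχ
  have hd0 : ∀ i, d i ≠ 0 := fun i => Finset.prod_ne_zero_iff.2 fun k hk => zpow_ne_zero _ (hc k (Finset.mem_range.1 hk))
  refine ⟨dm d hd0, ⟨htz, fun v hv => ?_⟩, ∏ k ∈ Finset.range D.rank, c k ^ (exf ex k 0 + exf ex k T.m),
    Finset.prod_ne_zero_iff.2 fun k hk => zpow_ne_zero _ (hc k (Finset.mem_range.1 hk)), fun x => ?_⟩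
  · refine Lp_ind (P := fun v => ∀ x, Th T D F ((t : Matrix D.Idx D.Idx F) *ᵥ v) *ᵥ (dm d hd0 x) =
      dm d hd0 (Th T D F v *ᵥ x)) ?_ ?_ ?_ ?_ ?_ hv
    · intro x
      rw [Matrix.mulVec_zero, map_zero, Matrix.zero_mulVec, Matrix.zero_mulVec, map_zero]
    · intro v w h1 h2 x
      rw [Matrix.mulVec_add, map_add, map_add, Matrix.add_mulVec, Matrix.add_mulVec, map_add, h1, h2]
    · intro b v h1 x
      rw [Matrix.mulVec_smul, map_smul, map_smul, Matrix.smul_mulVec, Matrix.smul_mulVec, map_smul, h1]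
    · intro i hi x
      rw [diag_hv (χ := fun s => χ s) ht, Th_hv T D F hi]
      funext k
      have h1 := sm_dm (m := T.m) (F := F) (L := T.H i) (d := d) (χ := 1)
        (fun a ha => by rw [one_mul, P.dH i hi a ha]) x k
      rw [one_mul] at h1
      exact h1
    · intro s hs hsi x
      rw [diag_ev (χ := χ) ht, map_smul, Th_ev T D F hs, Matrix.smul_mulVec, Matrix.smul_mulVec, Matrix.smul_mulVec,
        map_smul, smul_comm]
      congr 1
      funext k
      refine sm_dm (m := T.m) (F := F) (L := T.E s) (d := d) (χ := χ s) (fun a ha => ?_) x k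
      have hw := wf_iff.1 (O.wfE s) a ha
      simp only [hd, hχ]
      rw [nx_ix hw.1, nx_ix hw.2, ← Finset.prod_mul_distrib]
      refine Finset.prod_congr rfl fun k hk => ?_
      rw [P.dE s hsi a ha k (Finset.mem_range.1 hk), zpow_add₀ (hc k (Finset.mem_range.1 hk))]
  · rw [coe_plusForm, quadFormPlus_apply, quadFormPlus_apply, Finset.mul_sum]
    refine Finset.sum_congr rfl fun i _ => ?_
    rw [dm_apply, dm_apply]
    have h1 : d (Sum.inl i) * d (Sum.inr i) = ∏ k ∈ Finset.range D.rank, c k ^ (exf ex k 0 + exf ex k T.m) := by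
      simp only [hd]
      rw [← Finset.prod_mul_distrib]
      refine Finset.prod_congr rfl fun k hk => ?_
      rw [← P.mu k (Finset.mem_range.1 hk) i i.2, zpow_add₀ (hc k (Finset.mem_range.1 hk))]
      rfl
    rw [← h1]
    ring

/-- the elementary skew matrices -/
def AA (m : ℕ) (F : Type u) [Field F] (i j : Fin m ⊕ Fin m) : Matrix (Fin m ⊕ Fin m) (Fin m ⊕ Fin m) F :=
  Matrix.single i j 1 - Matrix.single j.swap i.swap 1

theorem isA_spec {m : ℕ} [NeZero m] {L : Sp} (hL : wf m L = true) {i j : ℕ} (hi : i < m + m) (hj : j < m + m)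
    (h : isA m L i j = true) : ∃ c : F, c * c = 1 ∧ sm m F L = c • AA m F (ix m i) (ix m j) := by
  unfold isA at h
  rw [Bool.or_eq_true] at h
  have hw : ∀ c : ℤ, wf m (L ++ [(i, j, -c), (opn m j, opn m i, c)]) = true := by
    intro c
    rw [wf_append]
    refine ⟨hL, wf_iff.2 fun x hx => ?_⟩
    rw [List.mem_cons, List.mem_singleton] at hx
    rcases hx with rfl | rfl
    · exact ⟨hi, hj⟩
    · exact ⟨opn_lt hj, opn_lt hi⟩
  have key : ∀ c : ℤ, sm m F (L ++ [(i, j, -c), (opn m j, opn m i, c)]) =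
      sm m F L - (c : F) • AA m F (ix m i) (ix m j) := by
    intro c
    rw [sm_append, sm_cons, sm_cons, sm_nil, add_zero, ix_opn hi, ix_opn hj, AA, smul_sub, Matrix.smul_single,
      Matrix.smul_single, smul_eq_mul, mul_one, Int.cast_neg, sub_eq_add_neg, ← Matrix.single_neg]
    abel
  rcases h with h | h
  · refine ⟨1, one_mul 1, ?_⟩
    have h1 := sm_zr F (hw 1) h
    rw [key, Int.cast_one, sub_eq_zero] at h1
    exact h1
  · refine ⟨-1, by ring, ?_⟩
    have h1 := sm_zr F (hw (-1)) (by rw [neg_neg]; exact h)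
    rw [key, Int.cast_neg, Int.cast_one, sub_eq_zero] at h1
    exact h1

/-- the elementary skew matrices occur -/
theorem Tb.Ok2.hitA (P : T.Ok2 D ex) (O : T.Ok D) {i j : Fin T.m ⊕ Fin T.m} (h1 : i ≠ j) (h2 : i ≠ j.swap) :
    ∃ r, T.In r = true ∧ ∃ c : F, c * c = 1 ∧ sm T.m F (T.E r) = c • AA T.m F i j := by
  obtain ⟨r, hr, h3⟩ := P.hit (nx T.m i) (nx_lt i) (nx T.m j) (nx_lt j) (fun h => h1 (by rw [← ix_nx i, h, ix_nx]))
    (fun h => h2 (by rw [← ix_nx i, h, ix_opn (nx_lt j), ix_nx]))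
  obtain ⟨c, h4, h5⟩ := isA_spec (F := F) (O.wfE r) (nx_lt i) (nx_lt j) h3
  rw [ix_nx, ix_nx] at h5
  exact ⟨r, hr, c, h4, h5⟩

theorem exists_avoid {m : ℕ} (hm : 3 ≤ m) (i j : Fin m ⊕ Fin m) :
    ∃ k : Fin m ⊕ Fin m, k ≠ i ∧ k ≠ i.swap ∧ k ≠ j ∧ k ≠ j.swap := by
  have h1 : ∃ a : Fin m, a ∉ ({Sum.elim id id i, Sum.elim id id j} : Finset (Fin m)) := by
    by_contra h
    push Not at h
    have h2 : (Finset.univ : Finset (Fin m)) ⊆ {Sum.elim id id i, Sum.elim id id j} := fun a _ => h a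
    have h3 := Finset.card_le_card h2
    rw [Finset.card_univ, Fintype.card_fin] at h3
    have h4 := Finset.card_le_two (a := (Sum.elim id id i : Fin m)) (b := (Sum.elim id id j : Fin m))
    omega
  obtain ⟨a, ha⟩ := h1
  rw [Finset.mem_insert, Finset.mem_singleton, not_or] at ha
  refine ⟨Sum.inl a, ?_, ?_, ?_, ?_⟩
  · rintro rfl; exact ha.1 rfl
  · intro h
    rcases i with i | i
    · cases h
    · rw [Sum.swap_inr] at h
      exact ha.1 (Sum.inl_injective h)
  · rintro rfl; exact ha.2 rfl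
  · intro h
    rcases j with j | j
    · cases h
    · rw [Sum.swap_inr] at h
      exact ha.2 (Sum.inl_injective h)

theorem AA_mul {m : ℕ} {i j k : Fin m ⊕ Fin m} (hij : i ≠ j) (h2 : k ≠ i.swap) (h4 : k ≠ j.swap) :
    AA m F i k * AA m F k j = Matrix.single i j 1 := by
  unfold AA
  rw [sub_mul, mul_sub, mul_sub, Matrix.single_mul_single_same, mul_one,
    Matrix.single_mul_single_of_ne (h := h4), Matrix.single_mul_single_of_ne (h := h2.symm),
    Matrix.single_mul_single_of_ne (h := fun h => hij (Sum.swap_leftInverse.injective h))]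
  abel

/-- **the commutant consists of scalars** -/
theorem Tb.Ok2.scalar (P : T.Ok2 D ex) (O : T.Ok D) (h2 : (2 : F) ≠ 0) (hm : 3 ≤ T.m) {N : VT T F ≃ₗ[F] VT T F}
    (hN : ∀ v ∈ Lp T D F, ∀ x, Th T D F v *ᵥ (N x) = N (Th T D F v *ᵥ x)) : ∃ c : F, c ≠ 0 ∧ ∀ x, N x = c • x := by
  set A : Matrix (Fin T.m ⊕ Fin T.m) (Fin T.m ⊕ Fin T.m) F := LinearMap.toMatrix' (N : VT T F →ₗ[F] VT T F) with hA
  have hAx : ∀ x, A *ᵥ x = N x := fun x => by
    rw [hA, ← Matrix.toLin'_apply, Matrix.toLin'_toMatrix']; rfl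
  have hc : ∀ v ∈ Lp T D F, Commute (Th T D F v) A := by
    intro v hv
    apply Matrix.mulVec_injective
    funext x
    show (Th T D F v * A) *ᵥ x = (A * Th T D F v) *ᵥ x
    rw [← Matrix.mulVec_mulVec, ← Matrix.mulVec_mulVec, hAx, hAx, hN v hv]
  have hE : ∀ i j : Fin T.m ⊕ Fin T.m, i ≠ j → i ≠ j.swap → Commute (AA T.m F i j) A := by
    intro i j h1 h3
    obtain ⟨r, hr, c, hcc, e⟩ := P.hitA O (F := F) h1 h3
    have h4 := hc _ (ev_mem (T := T) (F := F) (D := D) hr)
    rw [Th_ev T D F (O.lt r hr), e, smul_smul] at h4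
    have hne : (2 : F) * c ≠ 0 := mul_ne_zero h2 (left_ne_zero_of_mul (by rw [hcc]; exact one_ne_zero))
    have h5 := h4.smul_left ((2 * c)⁻¹ : F)
    rwa [smul_smul, inv_mul_cancel₀ hne, one_smul] at h5
  have hS : Pairwise fun i j => Commute (Matrix.single i j (1 : F)) A := by
    intro i j hij
    obtain ⟨k, k1, k2, k3, k4⟩ := exists_avoid hm i j
    rw [← AA_mul (F := F) hij k2 k4]
    exact (hE i k k1.symm fun h => k2 (by rw [h, Sum.swap_swap])).mul_left (hE k j k3 k4)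
  obtain ⟨c, hc'⟩ := Matrix.mem_range_scalar_of_commute_single hS
  have h6 : ∀ x, N x = c • x := by
    intro x
    rw [← hAx, ← hc', Matrix.scalar_apply, ← Matrix.smul_one_eq_diagonal, Matrix.smul_mulVec, Matrix.one_mulVec]
  refine ⟨c, ?_, h6⟩
  rintro rfl
  have h7 : (Pi.single (Sum.inl 0) 1 : VT T F) = 0 := by
    apply N.injective
    rw [h6, zero_smul, map_zero]
  have h8 := congrFun h7 (Sum.inl 0)
  rw [Pi.single_eq_same] at h8
  exact one_ne_zero h8

/-- **uniqueness up to scalars** -/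
theorem Tb.Ok2.uniq (P : T.Ok2 D ex) (O : T.Ok D) (h2 : (2 : F) ≠ 0) (hm : 3 ≤ T.m) {z g : GL D.Idx F}
    (hz : ∀ v, (z : Matrix D.Idx D.Idx F) *ᵥ v = v ↔ v ∈ Lp T D F) {M L : VT T F ≃ₗ[F] VT T F}
    (hM : Rl T D F z g M) (hL : Rl T D F z g L) : ∃ c : F, c ≠ 0 ∧ ∀ x, L x = c • M x := by
  have h1 := Rl.mul hz (Rl.inv hz hM) hL
  rw [inv_mul_cancel] at h1
  obtain ⟨c, hc, h3⟩ := P.scalar O (N := M⁻¹ * L) h2 hm fun v hv x => by
    have h4 := h1.2 v hv x
    rwa [Units.val_one, Matrix.one_mulVec] at h4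
  refine ⟨c, hc, fun x => ?_⟩
  have h5 : M ((M⁻¹ * L) x) = L x := M.apply_symm_apply (L x)
  rw [← h5, h3, map_smul]

/-- the represented maps -/
def ImS {z : GL D.Idx F} (hz : ∀ v, (z : Matrix D.Idx D.Idx F) *ᵥ v = v ↔ v ∈ Lp T D F) (Y : Subgroup (GL D.Idx F)) :
    Subgroup (VT T F ≃ₗ[F] VT T F) where
  carrier := {M | ∃ g ∈ Y, Rl T D F z g M}
  one_mem' := ⟨1, Y.one_mem, Rl.one⟩
  mul_mem' := by
    rintro M N ⟨g, hg, h1⟩ ⟨h, hh, h3⟩
    exact ⟨g * h, Y.mul_mem hg hh, Rl.mul hz h1 h3⟩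
  inv_mem' := by
    rintro M ⟨g, hg, h1⟩
    exact ⟨g⁻¹, Y.inv_mem hg, Rl.inv hz h1⟩

open Cfsg.Agent.TitsThree Cfsg.Agent.TitsThree.Siegel Cfsg.Agent.TitsThree.SiegelGen Cfsg.Agent.TitsThree.KSideO in
/-- **the image contains `E Q`** -/
theorem Tb.Ok2.E_le (P : T.Ok2 D ex) (O : T.Ok D) {z : GL D.Idx F}
    (hz : ∀ v, (z : Matrix D.Idx D.Idx F) *ᵥ v = v ↔ v ∈ Lp T D F) {Y : Subgroup (GL D.Idx F)}
    (hx : ∀ r, T.In r = true → ∀ a : F, ∃ g ∈ Y, (g : Matrix D.Idx D.Idx F) = D.x F r a ∧ g * z = z * g) :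
    Cfsg.Agent.LieClassical.OrthCore.E (plusForm T.m F) ≤ ImS hz Y := by
  have key : ∀ a b : Fin T.m ⊕ Fin T.m, a ≠ b → a ≠ b.swap →
      Rt (HO (plusForm T.m F)) (ImS hz Y) (Pi.single a 1) (Pi.single b 1) := by
    intro a b hab hab' s h1 h3
    obtain ⟨r, hr, c, hcc, e⟩ := P.hitA O (F := F) (i := b) (j := a.swap)
      (fun h => hab' (by rw [h, Sum.swap_swap])) (fun h => hab (by rw [Sum.swap_swap] at h; exact h.symm))
    obtain ⟨g, hg, h4, h5⟩ := hx r hr (s * c)
    refine ⟨g, hg, ?_⟩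
    have h6 := O.Rl_root (z := z) hr h4 h5
    have h7 : tv _ (O.EE hr) (s * c) = (HO (plusForm T.m F)).sie (Pi.single a 1) (s • Pi.single b 1) 0 h1 h3 := by
      ext1 v
      rw [tv_apply, e, HForm.sie_apply, HO_h, HO_h, Matrix.smul_mulVec, smul_smul, mul_assoc, hcc, mul_one, zero_mul,
        zero_smul, add_zero, polar_comm, polar_single, polar_smul_right, polar_comm (plusForm T.m F) v, polar_single]
      show v + s • (AA T.m F b a.swap *ᵥ v) = v + v a.swap • s • Pi.single b 1 - ((1 : F)⁻¹ * s • v b.swap) • Pi.single a 1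
      rw [AA, Matrix.sub_mulVec, Matrix.single_mulVec, Matrix.single_mulVec, Sum.swap_swap, inv_one, one_mul, one_mul,
        one_mul, smul_eq_mul]
      funext k
      simp only [Pi.add_apply, Pi.sub_apply, Pi.smul_apply, smul_eq_mul, Function.update_apply, Pi.single_apply,
        Pi.zero_apply]
      split_ifs <;> ring
    rw [← h7]
    exact h6
  refine Cfsg.Agent.Nodes.RGDOrth.E_le_of_contains (Cfsg.Agent.Nodes.RGDOrth.wplus T.m F) ?_
  have hzt : ∀ x, Zt (PO (plusForm T.m F)) (ImS hz Y) ((Cfsg.Agent.Nodes.RGDOrth.wplus T.m F).V0 : Set _) x := by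
    intro x w c h1 h3 hw hwc
    have hw0 : w = 0 := (Submodule.mem_bot F).1 hw
    have hc0 : c = 0 := by
      have h4 : c = -plusForm T.m F w := hwc
      rw [h4, hw0, QuadraticMap.map_zero, neg_zero]
    subst hw0 hc0
    rw [HForm.sie_zero]
    exact Subgroup.one_mem _
  exact
    { ef := fun i j hij => key (Sum.inl i) (Sum.inr j) (by simp) (by simpa using hij)
      ee := fun i j hij => key (Sum.inl i) (Sum.inl j) (by simpa using hij) (by simp)
      ff := fun i j hij => key (Sum.inr i) (Sum.inr j) (by simpa using hij) (by simp)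
      ze := fun i => hzt _
      zf := fun i => hzt _ }

end

/-! ### the Lie algebra of the subsystem and the skew matrices -/

/-- facts for the bijection with the skew matrices -/
structure Tb.Ok3 (T : Tb) (D : ChevalleyDatum) (nn mm : List (List ℤ)) : Prop where
  dg : ∀ i < T.m, zr (((List.range D.rank).flatMap fun k => scl (exf nn i k) (T.H k)) ++
    [(i, i, -4), (opn T.m i, opn T.m i, 4)]) = true
  inj : ∀ r, T.In r = true → ∃ i j, i < T.m + T.m ∧ j < T.m + T.m ∧ (ent (T.E r) i j = 1 ∨ ent (T.E r) i j = -1) ∧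
    (∀ s, T.In s = true → s ≠ r → ent (T.E s) i j = 0) ∧ ∀ k < D.rank, ent (T.H k) i j = 0
  injH : ∀ l < D.rank, ∀ k < D.rank,
    ((List.range T.m).map fun i => exf mm l i * ent (T.H k) i i).sum = if l = k then 4 else 0

section

variable {T : Tb} [NeZero T.m] {D : ChevalleyDatum} {F : Type u} [Field F] {ex nn mm : List (List ℤ)}

theorem Tb.Ok3.inj' (R : T.Ok3 D nn mm) (O : T.Ok D) (h2 : (2 : F) ≠ 0) {v : D.Idx → F} (hv : v ∈ Lp T D F)
    (h : Th T D F v = 0) : v = 0 := by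
  have hent : ∀ i j, i < T.m + T.m → j < T.m + T.m → (∑ k : Fin D.rank, v (Sum.inl k) * (ent (T.H k) i j : F)) +
      ∑ s : Fin D.nroots, v (Sum.inr s) * (2 * (ent (T.E s) i j : F)) = 0 := by
    intro i j hi hj
    have h1 := congrFun (congrFun h (ix T.m i)) (ix T.m j)
    rw [Th_apply, Fintype.sum_sum_type, Matrix.add_apply, Matrix.sum_apply, Matrix.sum_apply, Matrix.zero_apply] at h1
    rw [← h1]
    congr 1
    · refine Finset.sum_congr rfl fun k _ => ?_
      rw [Matrix.smul_apply, smul_eq_mul]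
      show _ = _ * sm T.m F (T.H k) _ _
      rw [sm_apply_ix F (O.wfH k) hi hj]
    · refine Finset.sum_congr rfl fun s _ => ?_
      rw [Matrix.smul_apply, smul_eq_mul]
      show _ = _ * ((2 : F) • sm T.m F (T.E s)) _ _
      rw [Matrix.smul_apply, smul_eq_mul, sm_apply_ix F (O.wfE s) hi hj]
  have hr : ∀ r : Fin D.nroots, v (Sum.inr r) = 0 := by
    intro r
    cases hin : T.In r
    · exact hv r hin
    · obtain ⟨i, j, hi, hj, h1, h3, h4⟩ := R.inj r hin
      have h5 := hent i j hi hj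
      rw [Finset.sum_eq_zero, zero_add, Finset.sum_eq_single r] at h5
      · rcases h1 with h1 | h1
        · rw [h1, Int.cast_one, mul_one] at h5
          exact (mul_eq_zero.1 h5).resolve_right h2
        · rw [h1, Int.cast_neg, Int.cast_one, mul_neg_one, mul_neg, neg_eq_zero] at h5
          exact (mul_eq_zero.1 h5).resolve_right h2
      · intro s _ hs
        cases hins : T.In s
        · rw [hv s hins, zero_mul]
        · rw [h3 s hins (fun h => hs (Fin.ext h)), Int.cast_zero, mul_zero, mul_zero]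
      · intro h; exact absurd (Finset.mem_univ _) h
      · intro k _
        rw [h4 k k.2, Int.cast_zero, mul_zero]
  have h4 : (4 : F) ≠ 0 := by
    rw [show (4 : F) = 2 * 2 by norm_num]
    exact mul_ne_zero h2 h2
  have hl : ∀ l : Fin D.rank, v (Sum.inl l) = 0 := by
    intro l
    have h5 : ∀ i < T.m, ∑ k : Fin D.rank, v (Sum.inl k) * (ent (T.H k) i i : F) = 0 := by
      intro i hi
      have h6 := hent i i (by omega) (by omega)
      rw [add_comm, Finset.sum_eq_zero, zero_add] at h6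
      · exact h6
      · intro s _
        rw [hr, zero_mul]
    have h6 : ∑ i : Fin T.m, (exf mm l i : F) * ∑ k : Fin D.rank, v (Sum.inl k) * (ent (T.H k) i i : F) = 0 :=
      Finset.sum_eq_zero fun i _ => by rw [h5 i i.2, mul_zero]
    simp only [Finset.mul_sum] at h6
    rw [Finset.sum_comm, Finset.sum_eq_single l] at h6
    · have h7 : ∑ i : Fin T.m, (exf mm l i : F) * (v (Sum.inl l) * (ent (T.H l) i i : F)) =
          v (Sum.inl l) * ∑ i : Fin T.m, ((exf mm l i * ent (T.H l) i i : ℤ) : F) := by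
        rw [Finset.mul_sum]
        refine Finset.sum_congr rfl fun i _ => ?_
        push_cast
        ring
      have h8 := R.injH l l.2 l l.2
      rw [if_pos rfl, sum_list_range] at h8
      rw [h7, ← Int.cast_sum, h8] at h6
      exact (mul_eq_zero.1 h6).resolve_right (by exact_mod_cast h4)
    · intro k _ hk
      have h7 : ∑ i : Fin T.m, (exf mm l i : F) * (v (Sum.inl k) * (ent (T.H k) i i : F)) =
          v (Sum.inl k) * ∑ i : Fin T.m, ((exf mm l i * ent (T.H k) i i : ℤ) : F) := by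
        rw [Finset.mul_sum]
        refine Finset.sum_congr rfl fun i _ => ?_
        push_cast
        ring
      have h8 := R.injH l l.2 k k.2
      rw [if_neg (fun h => hk (Fin.ext h.symm)), sum_list_range] at h8
      rw [h7, ← Int.cast_sum, h8, Int.cast_zero, mul_zero]
    · intro h; exact absurd (Finset.mem_univ _) h
  funext j
  rcases j with j | j
  · exact hl j
  · exact hr j

theorem AA_swap {m : ℕ} (i j : Fin m ⊕ Fin m) : AA m F j.swap i.swap = -AA m F i j := by
  unfold AA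
  rw [Sum.swap_swap, Sum.swap_swap, neg_sub]

theorem Tb.Ok3.AA_mem (R : T.Ok3 D nn mm) (P : T.Ok2 D ex) (O : T.Ok D) (h2 : (2 : F) ≠ 0) (i j : Fin T.m ⊕ Fin T.m) :
    AA T.m F i j ∈ (Lp T D F).map (Th T D F) := by
  have h4 : (4 : F) ≠ 0 := by
    rw [show (4 : F) = 2 * 2 by norm_num]
    exact mul_ne_zero h2 h2
  have hH : ∀ k < D.rank, sm T.m F (T.H k) ∈ (Lp T D F).map (Th T D F) := fun k hk => by
    rw [← Th_hv T D F hk]; exact Submodule.mem_map_of_mem hv_mem
  by_cases h1 : i = j.swap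
  · subst h1
    have : AA T.m F j.swap j = 0 := by
      unfold AA
      rw [Sum.swap_swap, sub_self]
    rw [this]
    exact Submodule.zero_mem _
  · by_cases h3 : i = j
    · subst h3
      have key : ∀ i : ℕ, i < T.m → AA T.m F (ix T.m i) (ix T.m i) ∈ (Lp T D F).map (Th T D F) := by
        intro i hi
        have hi' : i < T.m + T.m := by omega
        have hw1 : wf T.m ((List.range D.rank).flatMap fun k => scl (exf nn i k) (T.H k)) = true := by
          rw [wf_iff]
          intro x hx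
          obtain ⟨k, -, hx⟩ := List.mem_flatMap.1 hx
          exact wf_iff.1 (wf_scl (O.wfH k)) x hx
        have hw2 : wf T.m [(i, i, -4), (opn T.m i, opn T.m i, 4)] = true := by
          refine wf_iff.2 fun x hx => ?_
          rw [List.mem_cons, List.mem_singleton] at hx
          rcases hx with rfl | rfl
          · exact ⟨hi', hi'⟩
          · exact ⟨opn_lt hi', opn_lt hi'⟩
        have h5 := sm_zr F (wf_append.2 ⟨hw1, hw2⟩) (R.dg i hi)
        have h6 : sm T.m F [(i, i, -4), (opn T.m i, opn T.m i, 4)] = -((4 : F) • AA T.m F (ix T.m i) (ix T.m i)) := by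
          rw [sm_cons, sm_cons, sm_nil, add_zero, ix_opn hi', AA, smul_sub, Matrix.smul_single, Matrix.smul_single,
            smul_eq_mul, mul_one, Int.cast_neg, ← Matrix.single_neg]
          simp only [Int.cast_ofNat]
          abel
        rw [sm_append, sm_flatMap, h6, ← sub_eq_add_neg, sub_eq_zero] at h5
        rw [← Submodule.smul_mem_iff _ h4, ← h5, sum_list_range]
        refine Submodule.sum_mem _ fun k _ => ?_
        rw [sm_scl]
        exact Submodule.smul_mem _ _ (hH k k.2)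
      rcases i with i | i
      · have h5 := key i i.2
        have h6 : ix T.m (i : ℕ) = Sum.inl i := ix_nx (Sum.inl i)
        rwa [h6] at h5
      · have h5 := key i i.2
        have h6 : ix T.m (i : ℕ) = Sum.inl i := ix_nx (Sum.inl i)
        rw [h6] at h5
        have h7 := AA_swap (F := F) (Sum.inr i) (Sum.inr i)
        rw [Sum.swap_inr] at h7
        rw [← neg_neg (AA T.m F (Sum.inr i) (Sum.inr i)), ← h7]
        exact Submodule.neg_mem _ h5
    · obtain ⟨r, hr, c, hcc, e⟩ := P.hitA O (F := F) h3 h1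
      have h5 : Th T D F (ev D F r) ∈ (Lp T D F).map (Th T D F) := Submodule.mem_map_of_mem (ev_mem hr)
      rw [Th_ev T D F (O.lt r hr), e, smul_smul] at h5
      exact (Submodule.smul_mem_iff _ (mul_ne_zero h2 (left_ne_zero_of_mul (by rw [hcc]; exact one_ne_zero)))).1 h5

/-- **every skew matrix is in the image** -/
theorem Tb.Ok3.surj (R : T.Ok3 D nn mm) (P : T.Ok2 D ex) (O : T.Ok D) (h2 : (2 : F) ≠ 0)
    {A : Matrix (Fin T.m ⊕ Fin T.m) (Fin T.m ⊕ Fin T.m) F} (hA : st A = -A) : ∃ v ∈ Lp T D F, Th T D F v = A := by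
  have h1 : (2 : F) • A = ∑ i, ∑ j, A i j • AA T.m F i j := by
    have h3 : ∑ i, ∑ j, A i j • Matrix.single i j (1 : F) = A := by
      simp only [Matrix.smul_single, smul_eq_mul, mul_one]
      exact (Matrix.matrix_eq_sum_single A).symm
    have h4 : ∑ i, ∑ j, A i j • Matrix.single j.swap i.swap (1 : F) = st A := by
      ext a b
      rw [Matrix.sum_apply]
      simp only [Matrix.sum_apply, Matrix.smul_apply, Matrix.single_apply, smul_eq_mul]
      rw [Finset.sum_eq_single b.swap, Finset.sum_eq_single a.swap]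
      · rw [Sum.swap_swap, Sum.swap_swap, if_pos ⟨rfl, rfl⟩, mul_one]; rfl
      · intro j _ hj
        rw [if_neg, mul_zero]
        rintro ⟨h5, -⟩
        exact hj (by rw [← h5, Sum.swap_swap])
      · intro h; exact absurd (Finset.mem_univ _) h
      · intro i _ hi
        refine Finset.sum_eq_zero fun j _ => ?_
        rw [if_neg, mul_zero]
        rintro ⟨-, h5⟩
        exact hi (by rw [← h5, Sum.swap_swap])
      · intro h; exact absurd (Finset.mem_univ _) h
    unfold AA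
    simp only [smul_sub, Finset.sum_sub_distrib]
    rw [h3, h4, hA, sub_neg_eq_add, two_smul]
  have h5 : (2 : F) • A ∈ (Lp T D F).map (Th T D F) := by
    rw [h1]
    exact Submodule.sum_mem _ fun i _ => Submodule.sum_mem _ fun j _ => Submodule.smul_mem _ _ (R.AA_mem P O h2 i j)
  obtain ⟨v, hv, e⟩ := Submodule.mem_map.1 ((Submodule.smul_mem_iff _ h2).1 h5)
  exact ⟨v, hv, e⟩

/-- the `(-1)`-eigenspace of `g` on the Lie algebra of the subsystem -/
def EmS (T : Tb) [NeZero T.m] (D : ChevalleyDatum) (F : Type u) [Field F] (g : GL D.Idx F) : Submodule F (D.Idx → F) where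
  carrier := {v | v ∈ Lp T D F ∧ (g : Matrix D.Idx D.Idx F) *ᵥ v = -v}
  add_mem' := by
    rintro v w ⟨h1, h2⟩ ⟨h3, h4⟩
    exact ⟨Submodule.add_mem _ h1 h3, by rw [Matrix.mulVec_add, h2, h4, neg_add]⟩
  zero_mem' := ⟨Submodule.zero_mem _, by rw [Matrix.mulVec_zero, neg_zero]⟩
  smul_mem' := by
    rintro c v ⟨h1, h2⟩
    exact ⟨Submodule.smul_mem _ _ h1, by rw [Matrix.mulVec_smul, h2, smul_neg]⟩

open Cfsg.Agent.H64.Co3 in
/-- **the `(-1)`-eigenspace of `Ad M`** -/
theorem Tb.Ok3.finrank_adm (R : T.Ok3 D nn mm) (P : T.Ok2 D ex) (O : T.Ok D) (h2 : (2 : F) ≠ 0) {z g : GL D.Idx F}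
    (hz : ∀ v, (z : Matrix D.Idx D.Idx F) *ᵥ v = v ↔ v ∈ Lp T D F) {M : VT T F ≃ₗ[F] VT T F} (hM : Rl T D F z g M) :
    Module.finrank F (adm (plusForm T.m F) M) = Module.finrank F (EmS T D F g) := by
  let φ : EmS T D F g →ₗ[F] (VT T F →ₗ[F] VT T F) :=
    (Matrix.toLin' : Matrix (Fin T.m ⊕ Fin T.m) (Fin T.m ⊕ Fin T.m) F ≃ₗ[F] _).toLinearMap ∘ₗ Th T D F ∘ₗ
      (EmS T D F g).subtype
  have hφ : ∀ v, ∀ x, φ v x = Th T D F (v : D.Idx → F) *ᵥ x := fun v x => Matrix.toLin'_apply _ _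
  have hinj : Function.Injective φ := by
    rw [← LinearMap.ker_eq_bot, LinearMap.ker_eq_bot']
    intro v hv
    have h1 : Th T D F (v : D.Idx → F) = 0 := by
      apply Matrix.mulVec_injective
      funext x
      show Th T D F (v : D.Idx → F) *ᵥ x = (0 : Matrix _ _ F) *ᵥ x
      rw [← hφ, hv, Matrix.zero_mulVec]; rfl
    exact Subtype.ext (R.inj' O h2 v.2.1 h1)
  have hr : LinearMap.range φ = adm (plusForm T.m F) M := by
    ext S
    rw [LinearMap.mem_range, mem_adm]
    constructor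
    · rintro ⟨v, rfl⟩
      have h1 := (st_eq_neg_iff _).1 (P.stTh O v.2.1)
      refine ⟨fun x y => ?_, fun x => ?_⟩
      · rw [hφ, hφ]; exact h1 x y
      · rw [hφ, hφ, ← hM.2 _ v.2.1, v.2.2, map_neg, Matrix.neg_mulVec]
    · rintro ⟨h1, h3⟩
      have hS : ∀ x, LinearMap.toMatrix' S *ᵥ x = S x := fun x => by
        rw [← Matrix.toLin'_apply, Matrix.toLin'_toMatrix']
      obtain ⟨v, hv, e⟩ := R.surj P O h2 (A := LinearMap.toMatrix' S) ((st_eq_neg_iff _).2 fun x y => by
        rw [hS, hS]; exact h1 x y)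
      have h4 : (g : Matrix D.Idx D.Idx F) *ᵥ v = -v := by
        rw [eq_neg_iff_add_eq_zero]
        refine R.inj' O h2 (Submodule.add_mem _ (Rl.mem hz hM.1 hv) hv) ?_
        apply Matrix.mulVec_injective
        funext x
        show Th T D F ((g : Matrix D.Idx D.Idx F) *ᵥ v + v) *ᵥ x = (0 : Matrix _ _ F) *ᵥ x
        obtain ⟨y, rfl⟩ := M.surjective x
        rw [map_add, Matrix.add_mulVec, Matrix.zero_mulVec, hM.2 _ hv, e, hS, hS, h3, neg_add_cancel]
      have h5 : v ∈ EmS T D F g := ⟨hv, h4⟩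
      refine ⟨⟨v, h5⟩, LinearMap.ext fun x => ?_⟩
      rw [hφ, e, hS]
  rw [← hr, LinearMap.finrank_range_of_inj hinj]

end

end Cfsg.Agent.H736.Co3
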