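import Cfsg.Agent.H736.Co3.Tab8
import Cfsg.Agent.H736.Co3.Rel

/-!
# S1920: the subsystem `D8` of `E8` (helper736); more facts on the tables, checked by the kernel
-/

set_option autoImplicit false

namespace Cfsg.Agent.H736.Co3

open Cfsg.Lie Cfsg.Agent.ChevalleyStructure.XColumns

def nn8 : List (List ℤ) := [[4, 5, 7, 10, 8, 6, 4, 2],
  [0, 1, 1, 2, 2, 2, 2, 2],
  [0, 1, 1, 2, 2, 2, 2, 0],
  [0, 1, 1, 2, 2, 2, 0, 0],
  [0, 1, 1, 2, 2, 0, 0, 0],
  [0, 1, 1, 2, 0, 0, 0, 0],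
  [0, 1, 1, 0, 0, 0, 0, 0],
  [0, 1, -1, 0, 0, 0, 0, 0]]

def mm8 : List (List ℤ) := [[4, 0, 0, 0, 0, 0, 0, 0],
  [5, 1, 1, 1, 1, 1, 1, 1],
  [7, 1, 1, 1, 1, 1, 1, -1],
  [10, 2, 2, 2, 2, 2, 0, 0],
  [8, 2, 2, 2, 2, 0, 0, 0],
  [6, 2, 2, 2, 0, 0, 0, 0],
  [4, 2, 2, 0, 0, 0, 0, 0],
  [2, 2, 0, 0, 0, 0, 0, 0]]

theorem c8_1 : (rws8.all fun p => p.A.all fun a => (List.range 8).all fun k =>
    decide (exf ex8 k a.1 = chevE8.cartan k p.r + exf ex8 k a.2.1)) = true := by decide +kernel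

theorem c8_2 : ((List.range 8).all fun i => (T8.H i).all fun a => Nat.beq a.1 a.2.1) = true := by decide +kernel

theorem c8_3 : ((List.range 8).all fun k => (List.range 8).all fun i =>
    decide (exf ex8 k i + exf ex8 k (i + 8) = exf ex8 k 0 + exf ex8 k 8)) = true := by decide +kernel

theorem c8_4 : (rws8.all fun p => zr (skw 8 p.A)) = true := by decide +kernel

theorem c8_5 : ((List.range 8).all fun i => zr (skw 8 (T8.H i))) = true := by decide +kernel

theorem c8_6 : ((List.range 16).all fun i => (List.range 16).all fun j => Nat.beq i j || Nat.beq i (opn 8 j) ||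
    rws8.any fun p => p.rm.testBit i && (p.cm.testBit j && isA 8 p.A i j)) = true := by decide +kernel

theorem c8_7 : ((List.range 8).all fun i => zr (((List.range 8).flatMap fun k => scl (exf nn8 i k) (T8.H k)) ++
    [(i, i, -4), (opn 8 i, opn 8 i, 4)])) = true := by decide +kernel

theorem c8_8 : (rws8.all fun p => p.A.any fun a => (decide (ent p.A a.1 a.2.1 = 1) || decide (ent p.A a.1 a.2.1 = -1)) &&
    (rws8.all fun q => Nat.beq q.r p.r || decide (ent q.A a.1 a.2.1 = 0)) &&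
    (List.range 8).all fun k => decide (ent (T8.H k) a.1 a.2.1 = 0)) = true := by decide +kernel

theorem c8_9 : ((List.range 8).all fun l => (List.range 8).all fun k =>
    decide (((List.range 8).map fun i => exf mm8 l i * ent (T8.H k) i i).sum = if l = k then 4 else 0)) = true := by
  decide +kernel

theorem spec8 {r : ℕ} (hr : T8.In r = true) : ∃ p ∈ rws8, p.r = r ∧ T8.E r = p.A := by
  have h3 := T8_3
  unfold Tb.okRest at h3
  simp only [Bool.and_eq_true, List.all_eq_true, List.mem_range, Bool.or_eq_true, Bool.not_eq_true', List.any_eq_true,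
    Nat.blt_eq] at h3
  obtain ⟨⟨⟨⟨ha, hb⟩, -⟩, -⟩, -⟩ := h3
  have hlt : r < 240 := T8_ok.lt r hr
  rcases ha r hlt with h | ⟨p, hp, h⟩
  · rw [h] at hr; exact absurd hr Bool.false_ne_true
  · have h1 := List.all_eq_true.1 T8_1 p hp
    unfold Tb.Rw.ok at h1
    simp only [Bool.and_eq_true, decide_eq_true_eq] at h1
    obtain ⟨⟨⟨⟨⟨⟨⟨⟨⟨⟨-, -⟩, -⟩, -⟩, q1⟩, -⟩, -⟩, -⟩, -⟩, -⟩, -⟩ := h1
    have h2 := Nat.eq_of_beq_eq_true h
    exact ⟨p, hp, h2.symm, by rw [h2, q1]⟩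

theorem spec8' {p : Tb.Rw} (hp : p ∈ rws8) : T8.In p.r = true ∧ T8.E p.r = p.A := by
  have h1 := List.all_eq_true.1 T8_1 p hp
  unfold Tb.Rw.ok at h1
  simp only [Bool.and_eq_true, decide_eq_true_eq] at h1
  obtain ⟨⟨⟨⟨⟨⟨⟨⟨⟨⟨q0, -⟩, -⟩, -⟩, q1⟩, -⟩, -⟩, -⟩, -⟩, -⟩, -⟩ := h1
  exact ⟨q0, q1⟩

theorem T8_ok2 : T8.Ok2 chevE8 ex8 where
  dE := by
    intro r hr a ha k hk
    obtain ⟨p, hp, rfl, e⟩ := spec8 hr
    rw [e] at ha
    exact of_decide_eq_true (List.all_eq_true.1 (List.all_eq_true.1 (List.all_eq_true.1 c8_1 p hp) a ha) k (List.mem_range.2 hk))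
  dH := by
    intro i hi a ha
    exact Nat.eq_of_beq_eq_true (List.all_eq_true.1 (List.all_eq_true.1 c8_2 i (List.mem_range.2 hi)) a ha)
  mu := by
    intro k hk i hi
    exact of_decide_eq_true (List.all_eq_true.1 (List.all_eq_true.1 c8_3 k (List.mem_range.2 hk)) i (List.mem_range.2 hi))
  skE := by
    intro r hr
    obtain ⟨p, hp, rfl, e⟩ := spec8 hr
    rw [e]
    exact List.all_eq_true.1 c8_4 p hp
  skH := fun i hi => List.all_eq_true.1 c8_5 i (List.mem_range.2 hi)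
  hit := by
    intro i hi j hj h1 h2
    have h3 := List.all_eq_true.1 (List.all_eq_true.1 c8_6 i (List.mem_range.2 hi)) j (List.mem_range.2 hj)
    rw [Bool.or_eq_true, Bool.or_eq_true, List.any_eq_true] at h3
    rcases h3 with (h3 | h3) | ⟨p, hp, h3⟩
    · exact absurd (Nat.eq_of_beq_eq_true h3) h1
    · exact absurd (Nat.eq_of_beq_eq_true h3) h2
    · rw [Bool.and_eq_true, Bool.and_eq_true] at h3
      obtain ⟨h4, h5⟩ := spec8' hp
      exact ⟨p.r, h4, by rw [h5]; exact h3.2.2⟩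

theorem T8_ok3 : T8.Ok3 chevE8 nn8 mm8 where
  dg := fun i hi => List.all_eq_true.1 c8_7 i (List.mem_range.2 hi)
  inj := by
    intro r hr
    obtain ⟨p, hp, rfl, e⟩ := spec8 hr
    have h1 := List.all_eq_true.1 c8_8 p hp
    rw [List.any_eq_true] at h1
    obtain ⟨a, ha, h1⟩ := h1
    simp only [Bool.and_eq_true, Bool.or_eq_true, List.all_eq_true, decide_eq_true_eq, List.mem_range] at h1
    obtain ⟨⟨h2, h3⟩, h4⟩ := h1
    rw [← e] at ha h2
    have hw := wf_iff.1 (T8_ok.wfE _) a ha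
    refine ⟨a.1, a.2.1, hw.1, hw.2, h2, fun s hs hsr => ?_, h4⟩
    obtain ⟨q, hq, rfl, e'⟩ := spec8 hs
    rw [e']
    rcases h3 q hq with h5 | h5
    · exact absurd (Nat.eq_of_beq_eq_true h5) hsr
    · exact h5
  injH := by
    intro l hl k hk
    exact of_decide_eq_true (List.all_eq_true.1 (List.all_eq_true.1 c8_9 l (List.mem_range.2 hl)) k (List.mem_range.2 hk))

end Cfsg.Agent.H736.Co3
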