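import Cfsg.Agent.H557.Co3.CentE8
import Cfsg.Agent.H736.Co3.Tab8b

/-!
# S1920: `C_G(z)` for `G = E8(q)`, `z` of type `D8`, and the 16-dimensional space (helper736)
-/

set_option autoImplicit false
set_option linter.unusedSectionVars false

namespace Cfsg.Agent.H736.Co3

open Matrix
open Cfsg.Lie Cfsg.Agent.ChevalleyStructure Cfsg.Agent.ChevalleyStructure.XColumns
open Cfsg.Agent.ChevalleyStructure.Elts Cfsg.Agent.ChevalleyStructure.CoxeterGeom
  Cfsg.Agent.ChevalleyStructure.CoxeterGeomTypes Cfsg.Agent.Nodes.RGDChev Cfsg.Agent.ChevalleyStructure.RootVec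
open Cfsg.Agent.Tits.Roots Cfsg.Agent.Tits.Core Cfsg.Agent.Nodes.Reps Cfsg.Agent.Nodes.BNOf
open Cfsg.Agent.KFacts.RgdChevCoord Cfsg.Agent.OddHalf.NI.ModelChev Cfsg.Agent.H557.Toral Cfsg.Agent.H557.SignTorus
  Cfsg.Agent.H557.OrbE8 Cfsg.Agent.H557.InvE8 Cfsg.Agent.H557.Co3.CentE8
open Cfsg.Agent.LieClassical Cfsg.Agent.LieClassical.OrthCore Cfsg.Agent.LieClassical.OrthForms

universe u

variable (F : Type u) [Field F]

/-- the involution of type `D8` -/
noncomputable def z8 : ↥(chevE8.group F) := th Nodes.KindE.isType8 (sg F 8 n_TabD8)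

theorem In8 : ((List.range 240).all fun s => T8.In s == decide (rt chevE8 s 0 % 2 = 0)) = true := by decide +kernel

theorem In_iff {s : ℕ} (hs : s < 240) : T8.In s = true ↔ Even (vec chevE8 8 s 0) := by
  have h1 := List.all_eq_true.1 In8 s (List.mem_range.2 hs)
  rw [beq_iff_eq] at h1
  rw [h1, decide_eq_true_eq, Int.even_iff]
  rfl

variable {F}

theorem z8_sq : z8 F * z8 F = 1 := by
  unfold z8
  rw [← map_mul, sg_mul_self, map_one]

/-- the matrix of `z` -/
theorem z8_spec (h2 : (2 : F) ≠ 0) : ((z8 F : GL chevE8.Idx F) : Matrix chevE8.Idx chevE8.Idx F) =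
      Matrix.diagonal (Sum.elim (fun _ => (1 : F)) (fun s : Fin chevE8.nroots => if T8.In s = true then 1 else -1)) ∧
    ∀ s < 240, T8.In s = true → ∀ a, (z8 F : GL chevE8.Idx F) * xG Nodes.KindE.isType8.inList s a =
      xG Nodes.KindE.isType8.inList s a * (z8 F : GL chevE8.Idx F) := by
  have hT : z8 F ∈ TT chevE8 F := th_mem _ _
  obtain ⟨c, hc, h1, h3⟩ := Cfsg.Agent.H129.Tor.exists_c Nodes.KindE.isType8 (F := F) (t := (z8 F : GL chevE8.Idx F)) hT
  have hsq : ∀ s : Fin chevE8.nroots, (∏ i ∈ Finset.range chevE8.rank, c i ^ chevE8.cartan i s) *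
      (∏ i ∈ Finset.range chevE8.rank, c i ^ chevE8.cartan i s) = 1 := by
    intro s
    have h4 := congrArg (fun g : ↥(chevE8.group F) => ((g : GL chevE8.Idx F) : Matrix chevE8.Idx chevE8.Idx F)
      (Sum.inr s) (Sum.inr s)) (z8_sq (F := F))
    simp only [Subgroup.coe_mul, Units.val_mul, Subgroup.coe_one, Units.val_one] at h4
    rw [h1, Matrix.diagonal_mul_diagonal, Matrix.diagonal_apply_eq, Matrix.one_apply_eq] at h4
    exact h4
  have hch : ∀ s < 240, ch Nodes.KindE.isType8 (vec chevE8 8 s) (z8 F) =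
      ∏ i ∈ Finset.range chevE8.rank, c i ^ chevE8.cartan i s := by
    intro s hs
    refine ch_eq Nodes.KindE.isType8 hs hT (Subtype.ext ?_)
    rw [Subgroup.coe_mul, Subgroup.coe_mul, Subgroup.coe_inv, coe_xc Nodes.KindE.isType8 hs,
      coe_xc Nodes.KindE.isType8 hs, h3 s hs 1, mul_one]
  have hval : ∀ s < 240, ∏ i ∈ Finset.range chevE8.rank, c i ^ chevE8.cartan i s =
      if T8.In s = true then 1 else -1 := by
    intro s hs
    have h5 : ch Nodes.KindE.isType8 (vec chevE8 8 s) (z8 F) = 1 ↔ Even (vec chevE8 8 s 0) :=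
      ch_sg Nodes.KindE.isType8 cs hcm (isRoot_vec Nodes.KindE.isType8 cs hs) h2 n0_TabD8
    rw [hch s hs, ← In_iff hs] at h5
    by_cases h : T8.In s = true
    · rw [if_pos h, h5.2 h]
    · rw [if_neg h]
      exact (mul_self_eq_one_iff.1 (hsq ⟨s, hs⟩)).resolve_left fun h6 => h (h5.1 h6)
  refine ⟨?_, fun s hs hin a => ?_⟩
  · rw [h1]
    congr 1
    funext j
    rcases j with j | j
    · rfl
    · exact hval j j.2
  · have h4 := h3 s hs a
    rw [hval s hs, if_pos hin, one_mul] at h4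
    rwa [mul_inv_eq_iff_eq_mul] at h4

theorem z8_inl (h2 : (2 : F) ≠ 0) (v : chevE8.Idx → F) (i : Fin chevE8.rank) :
    (((z8 F : GL chevE8.Idx F) : Matrix chevE8.Idx chevE8.Idx F) *ᵥ v) (Sum.inl i) = v (Sum.inl i) := by
  rw [(z8_spec h2).1, Matrix.mulVec_diagonal]
  exact one_mul _

theorem z8_inr (h2 : (2 : F) ≠ 0) (v : chevE8.Idx → F) (s : Fin chevE8.nroots) :
    (((z8 F : GL chevE8.Idx F) : Matrix chevE8.Idx chevE8.Idx F) *ᵥ v) (Sum.inr s) =
      if T8.In s = true then v (Sum.inr s) else -v (Sum.inr s) := by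
  rw [(z8_spec h2).1, Matrix.mulVec_diagonal, Sum.elim_inr]
  split_ifs
  · exact one_mul _
  · exact neg_one_mul _

theorem eq_neg_self (h2 : (2 : F) ≠ 0) {a : F} : -a = a ↔ a = 0 := by
  rw [neg_eq_iff_add_eq_zero, ← two_mul, mul_eq_zero, or_iff_right h2]

/-- the `1`-eigenspace of `z` -/
theorem hz8 (h2 : (2 : F) ≠ 0) (v : chevE8.Idx → F) :
    ((z8 F : GL chevE8.Idx F) : Matrix chevE8.Idx chevE8.Idx F) *ᵥ v = v ↔ v ∈ Lp T8 chevE8 F := by
  constructor
  · intro h s hs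
    have h1 := congrFun h (Sum.inr s)
    rw [z8_inr h2, if_neg (by rw [hs]; exact Bool.false_ne_true)] at h1
    exact (eq_neg_self h2).1 h1
  · intro h
    funext j
    rcases j with j | j
    · rw [z8_inl h2]
    · rw [z8_inr h2]
      split_ifs with h1
      · rfl
      · rw [h j (by simpa using h1), neg_zero]

/-- the `(-1)`-eigenspace of `z` -/
theorem hz8' (h2 : (2 : F) ≠ 0) (v : chevE8.Idx → F) :
    ((z8 F : GL chevE8.Idx F) : Matrix chevE8.Idx chevE8.Idx F) *ᵥ v = -v ↔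
      (∀ i : Fin chevE8.rank, v (Sum.inl i) = 0) ∧ ∀ s : Fin chevE8.nroots, T8.In s = true → v (Sum.inr s) = 0 := by
  constructor
  · intro h
    refine ⟨fun i => ?_, fun s hs => ?_⟩
    · have h1 := congrFun h (Sum.inl i)
      rw [z8_inl h2, Pi.neg_apply] at h1
      exact (eq_neg_self h2).1 h1.symm
    · have h1 := congrFun h (Sum.inr s)
      rw [z8_inr h2, if_pos hs, Pi.neg_apply] at h1
      exact (eq_neg_self h2).1 h1.symm
  · rintro ⟨h1, h3⟩
    funext j
    rcases j with j | j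
    · rw [z8_inl h2, Pi.neg_apply, h1, neg_zero]
    · rw [z8_inr h2, Pi.neg_apply]
      split_ifs with h4
      · rw [h3 j h4, neg_zero]
      · rfl

/-- the relation "`M` represents `g`" -/
def R8 (g : ↥(chevE8.group F)) (M : VT T8 F ≃ₗ[F] VT T8 F) : Prop :=
  Rl T8 chevE8 F (z8 F : GL chevE8.Idx F) (g : GL chevE8.Idx F) M

theorem coe_xG {r : ℕ} (a : F) :
    ((xG Nodes.KindE.isType8.inList r a : GL chevE8.Idx F) : Matrix chevE8.Idx chevE8.Idx F) = chevE8.x F r a := rfl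

/-- **every element of `C_G(z)` is represented by a similitude** -/
theorem ex8s [Finite F] (ho : Odd (Nat.card F)) (h2 : (2 : F) ≠ 0) {g : ↥(chevE8.group F)} (hg : g * z8 F = z8 F * g) :
    ∃ M, ((g : GL chevE8.Idx F), M) ∈ RS (T := T8) (hz8 h2) := by
  have h1 : g ∈ GC Nodes.KindE.isType8 F 0 := cent_D8 ho hg.symm
  have h3 : GC Nodes.KindE.isType8 F 0 ≤
      ((RS (T := T8) (hz8 h2)).map (MonoidHom.fst _ _)).comap (chevE8.group F).subtype := by
    refine (Subgroup.closure_le _).2 ?_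
    rintro t (ht | ⟨r, a, hr, hev, ht⟩)
    · obtain ⟨c, hc, h4, -⟩ := Cfsg.Agent.H129.Tor.exists_c Nodes.KindE.isType8 (F := F)
        (t := (t : GL chevE8.Idx F)) ht
      have hcomm : (t : GL chevE8.Idx F) * (z8 F : GL chevE8.Idx F) = (z8 F : GL chevE8.Idx F) * t := by
        apply Units.ext
        rw [Units.val_mul, Units.val_mul, h4, (z8_spec h2).1, Matrix.diagonal_mul_diagonal,
          Matrix.diagonal_mul_diagonal]
        congr 1
        funext j
        exact mul_comm _ _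
      obtain ⟨M, hM⟩ := T8_ok2.torus T8_ok hc h4 hcomm
      exact ⟨(_, M), hM, rfl⟩
    · have hin : T8.In r = true := (In_iff hr).2 hev
      have h5 := T8_ok.Rl_root (z := (z8 F : GL chevE8.Idx F)) (g := (t : GL chevE8.Idx F)) hin (a := a)
        (by rw [ht]; rfl) (by rw [ht]; exact ((z8_spec h2).2 r hr hin a).symm)
      exact ⟨(_, _), ⟨h5, 1, one_ne_zero, fun x => by
        rw [one_mul]; exact tv_iso h2 (T8_ok.EE hin) (T8_ok2.stE T8_ok hin) a x⟩, rfl⟩
  obtain ⟨⟨g', M⟩, h4, h5⟩ := h3 h1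
  exact ⟨M, by rw [show (g : GL chevE8.Idx F) = g' from h5.symm]; exact h4⟩

theorem hx8 (h2 : (2 : F) ≠ 0) (r : ℕ) (hr : T8.In r = true) (a : F) : ∃ g ∈ chevE8.group F,
    (g : Matrix chevE8.Idx chevE8.Idx F) = chevE8.x F r a ∧
      g * (z8 F : GL chevE8.Idx F) = (z8 F : GL chevE8.Idx F) * g :=
  ⟨xG Nodes.KindE.isType8.inList r a, by
    rw [← coe_xc Nodes.KindE.isType8 (K := F) (T8_ok.lt r hr)]
    exact (xc Nodes.KindE.isType8 (vec chevE8 8 r) a).2, rfl, ((z8_spec h2).2 r (T8_ok.lt r hr) hr a).symm⟩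

open Cfsg.Agent.H64.Co3 in
/-- **the interface, from the kernel** -/
theorem d8i_of [Finite F] (ho : Odd (Nat.card F)) (h2 : (2 : F) ≠ 0)
    (hk : ∀ g : ↥(chevE8.group F), g * z8 F = z8 F * g →
      (∀ v ∈ Lp T8 chevE8 F, ((g : GL chevE8.Idx F) : Matrix chevE8.Idx chevE8.Idx F) *ᵥ v = v) → g = 1 ∨ g = z8 F) :
    D8I (plusForm T8.m F) (z8 F) (R8 (F := F)) where
  two := h2
  nondeg := nondeg_plusForm _ _
  dim := by
    rw [Module.finrank_fintype_fun_eq_card, Fintype.card_sum, Fintype.card_fin]; rfl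
  ex g hg := by
    obtain ⟨M, hM⟩ := ex8s ho h2 hg
    exact ⟨M, hM.1⟩
  scal c hM _ h := Rl.scal hM h
  mul h1 h3 := Rl.mul (hz8 h2) h1 h3
  uniq h1 h3 := T8_ok2.uniq T8_ok h2 (by decide) (hz8 h2) h1 h3
  sim := by
    intro g M hM
    obtain ⟨L, hL, μ, hμ, h3⟩ := ex8s ho h2 (g := g) (Subtype.ext hM.1)
    obtain ⟨c, hc, h4⟩ := T8_ok2.uniq T8_ok h2 (by decide) (hz8 h2) hL hM
    refine ⟨c * c * μ, mul_ne_zero (mul_ne_zero hc hc) hμ, fun v => ?_⟩
    rw [h4, QuadraticMap.map_smul, h3, smul_eq_mul, mul_assoc (c * c)]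
  one g := by
    constructor
    · intro h
      refine hk g (Subtype.ext h.1) fun v hv => ?_
      rw [← sub_eq_zero]
      refine T8_ok3.inj' T8_ok h2 (Submodule.sub_mem _ (Rl.mem (hz8 h2) h.1 hv) hv) ?_
      rw [map_sub, sub_eq_zero]
      apply Matrix.mulVec_injective
      funext x
      exact h.2 v hv x
    · rintro (rfl | rfl)
      · exact Rl.one
      · refine ⟨rfl, fun v hv x => ?_⟩
        rw [(hz8 h2 v).2 hv]; rfl
  om M hM := by
    obtain ⟨g, hg, h1⟩ := T8_ok2.E_le T8_ok (hz8 h2) (hx8 h2) hM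
    exact ⟨⟨g, hg⟩, Subtype.ext h1.1, h1⟩

open Cfsg.Agent.H64.Co3 in
/-- **the dimension of `adm`** -/
theorem adm8 (h2 : (2 : F) ≠ 0) {g : ↥(chevE8.group F)} {M : VT T8 F ≃ₗ[F] VT T8 F} (hM : R8 g M)
    (S : Submodule F (chevE8.Idx → F))
    (hS : ∀ v, v ∈ S ↔ ((g : GL chevE8.Idx F) : Matrix chevE8.Idx chevE8.Idx F) *ᵥ v = -v ∧
      ((z8 F : GL chevE8.Idx F) : Matrix chevE8.Idx chevE8.Idx F) *ᵥ v = v) :
    Module.finrank F (adm (plusForm T8.m F) M) = Module.finrank F S := by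
  rw [T8_ok3.finrank_adm T8_ok2 T8_ok h2 (hz8 h2) hM]
  have e : EmS T8 chevE8 F (g : GL chevE8.Idx F) = S := by
    ext v
    rw [hS, hz8 h2]
    exact and_comm
  rw [e]

end Cfsg.Agent.H736.Co3
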