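import Cfsg.Agent.ChevalleyStructure.XColumns
import Cfsg.Agent.ChevalleyStructure.RootVec

/-!
# S1920: the natural module of a subsystem of type `D_m` (helper736)

* `Sp` : sparse integer matrices; `sm` : their value over a field;
* `Tb` : tables of the matrices of the root elements; `Tb.chk` : the kernel check;
* `Tb.Ok.root` : `Θ (x_r(t) v) = (1 + t E_r) Θ v (1 - t E_r)` for the roots `r` of the subsystem and `v` in its Lie algebra.
-/

set_option autoImplicit false
set_option linter.unusedSectionVars false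

namespace Cfsg.Agent.H736.Co3

open Cfsg.Lie Cfsg.Agent.ChevalleyStructure Cfsg.Agent.ChevalleyStructure.XColumns Matrix

universe u

/-! ### sparse matrices -/

/-- index of the natural module -/
def ix (m : ℕ) [NeZero m] (i : ℕ) : Fin m ⊕ Fin m :=
  if i < m then Sum.inl (Fin.ofNat m i) else Sum.inr (Fin.ofNat m (i - m))

theorem ix_inj {m : ℕ} [NeZero m] {i j : ℕ} (hi : i < m + m) (hj : j < m + m) (h : ix m i = ix m j) : i = j := by
  unfold ix at h
  split_ifs at h with h1 h2 h2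
  · have h3 := congrArg Fin.val (Sum.inl_injective h)
    rw [Fin.val_ofNat, Fin.val_ofNat, Nat.mod_eq_of_lt h1, Nat.mod_eq_of_lt h2] at h3
    exact h3
  · have h3 := congrArg Fin.val (Sum.inr_injective h)
    rw [Fin.val_ofNat, Fin.val_ofNat, Nat.mod_eq_of_lt (by omega), Nat.mod_eq_of_lt (by omega)] at h3
    omega

/-- sparse integer matrices -/
abbrev Sp := List (ℕ × ℕ × ℤ)

/-- all indices are in range -/
def wf (m : ℕ) (L : Sp) : Bool := L.all fun e => Nat.blt e.1 (m + m) && Nat.blt e.2.1 (m + m)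

def mulS (A B : Sp) : Sp :=
  A.flatMap fun a => B.flatMap fun b => bif Nat.beq a.2.1 b.1 then [(a.1, b.2.1, a.2.2 * b.2.2)] else []

def scl (c : ℤ) (A : Sp) : Sp := A.map fun a => (a.1, a.2.1, c * a.2.2)

/-- sum of the entries at `(i, j)` -/
def ent (A : Sp) (i j : ℕ) : ℤ := A.foldr (fun a s => bif Nat.beq a.1 i && Nat.beq a.2.1 j then a.2.2 + s else s) 0

/-- the matrix is zero -/
def zr (A : Sp) : Bool := A.all fun a => decide (ent A a.1 a.2.1 = 0)

theorem wf_append {m : ℕ} {A B : Sp} : wf m (A ++ B) = true ↔ wf m A = true ∧ wf m B = true := by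
  unfold wf; rw [List.all_append, Bool.and_eq_true]

theorem wf_iff {m : ℕ} {A : Sp} : wf m A = true ↔ ∀ a ∈ A, a.1 < m + m ∧ a.2.1 < m + m := by
  unfold wf
  simp only [List.all_eq_true, Bool.and_eq_true, Nat.blt_eq]

theorem wf_mulS {m : ℕ} {A B : Sp} (hA : wf m A = true) (hB : wf m B = true) : wf m (mulS A B) = true := by
  rw [wf_iff] at hA hB ⊢
  intro c hc
  unfold mulS at hc
  obtain ⟨a, ha, hc⟩ := List.mem_flatMap.1 hc
  obtain ⟨b, hb, hc⟩ := List.mem_flatMap.1 hc
  cases h : Nat.beq a.2.1 b.1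
  · rw [h, cond_false] at hc
    simp at hc
  · rw [h, cond_true, List.mem_singleton] at hc
    subst hc
    exact ⟨(hA a ha).1, (hB b hb).2⟩

theorem wf_scl {m : ℕ} {c : ℤ} {A : Sp} (hA : wf m A = true) : wf m (scl c A) = true := by
  rw [wf_iff] at hA ⊢
  intro x hx
  obtain ⟨a, ha, rfl⟩ := List.mem_map.1 hx
  exact hA a ha

section

variable {m : ℕ} [NeZero m] (F : Type u) [Field F]

/-- the value of a sparse matrix -/
def sm (m : ℕ) [NeZero m] (F : Type u) [Field F] (L : Sp) : Matrix (Fin m ⊕ Fin m) (Fin m ⊕ Fin m) F :=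
  (L.map fun e => Matrix.single (ix m e.1) (ix m e.2.1) (e.2.2 : F)).sum

@[simp] theorem sm_nil : sm m F [] = 0 := rfl

theorem sm_cons (a : ℕ × ℕ × ℤ) (L : Sp) : sm m F (a :: L) = Matrix.single (ix m a.1) (ix m a.2.1) (a.2.2 : F) + sm m F L := rfl

theorem sm_append (A B : Sp) : sm m F (A ++ B) = sm m F A + sm m F B := by
  unfold sm; rw [List.map_append, List.sum_append]

theorem sm_scl (c : ℤ) (A : Sp) : sm m F (scl c A) = (c : F) • sm m F A := by
  induction A with
  | nil => simp [scl]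
  | cons a A ih =>
    have : scl c (a :: A) = (a.1, a.2.1, c * a.2.2) :: scl c A := rfl
    rw [this, sm_cons, sm_cons, ih, smul_add, Matrix.smul_single, smul_eq_mul, Int.cast_mul]

theorem sm_flatMap {α : Type*} (l : List α) (f : α → Sp) : sm m F (l.flatMap f) = (l.map fun a => sm m F (f a)).sum := by
  induction l with
  | nil => rfl
  | cons a l ih => rw [List.flatMap_cons, sm_append, ih, List.map_cons, List.sum_cons]

theorem sm_mulS {A B : Sp} (hA : wf m A = true) (hB : wf m B = true) : sm m F (mulS A B) = sm m F A * sm m F B := by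
  induction A with
  | nil => simp [mulS]
  | cons a A ih =>
    have hA' := wf_iff.1 hA
    have h1 : wf m A = true := wf_iff.2 fun x hx => hA' x (List.mem_cons_of_mem _ hx)
    have h2 : mulS (a :: A) B = (B.flatMap fun b => bif Nat.beq a.2.1 b.1 then [(a.1, b.2.1, a.2.2 * b.2.2)] else []) ++
      mulS A B := rfl
    rw [h2, sm_append, ih h1, sm_cons, add_mul]
    congr 1
    clear ih hA h2 h1
    induction B with
    | nil => simp
    | cons b B ih =>
      have hB' := wf_iff.1 hB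
      have h1 : wf m B = true := wf_iff.2 fun x hx => hB' x (List.mem_cons_of_mem _ hx)
      rw [List.flatMap_cons, sm_append, ih h1, sm_cons, mul_add]
      congr 1
      cases h : Nat.beq a.2.1 b.1
      · rw [cond_false, sm_nil]
        have h3 : ix m a.2.1 ≠ ix m b.1 := by
          intro h4
          have h5 := ix_inj (hA' a List.mem_cons_self).2 (hB' b List.mem_cons_self).1 h4
          rw [h5] at h
          simp at h
        exact (Matrix.single_mul_single_of_ne (h := h3) ..).symm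
      · rw [cond_true, sm_cons, sm_nil, add_zero]
        have h3 : a.2.1 = b.1 := Nat.eq_of_beq_eq_true h
        rw [← h3, Matrix.single_mul_single_same, Int.cast_mul]

theorem sm_apply_ix {A : Sp} (hA : wf m A = true) {i j : ℕ} (hi : i < m + m) (hj : j < m + m) :
    sm m F A (ix m i) (ix m j) = (ent A i j : F) := by
  induction A with
  | nil => simp [ent]
  | cons a A ih =>
    have hA' := wf_iff.1 hA
    have h1 : wf m A = true := wf_iff.2 fun x hx => hA' x (List.mem_cons_of_mem _ hx)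
    have h2 : ent (a :: A) i j = bif Nat.beq a.1 i && Nat.beq a.2.1 j then a.2.2 + ent A i j else ent A i j := rfl
    rw [sm_cons, Matrix.add_apply, ih h1, h2]
    cases h : Nat.beq a.1 i && Nat.beq a.2.1 j
    · rw [cond_false, Matrix.single_apply, if_neg, zero_add]
      rintro ⟨h3, h4⟩
      have h5 := ix_inj (hA' a List.mem_cons_self).1 hi h3
      have h6 := ix_inj (hA' a List.mem_cons_self).2 hj h4
      rw [h5, h6] at h
      simp at h
    · rw [cond_true, Matrix.single_apply, if_pos, Int.cast_add]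
      rw [Bool.and_eq_true] at h
      rw [Nat.eq_of_beq_eq_true h.1, Nat.eq_of_beq_eq_true h.2]
      exact ⟨rfl, rfl⟩

theorem sm_zr {A : Sp} (hA : wf m A = true) (h : zr A = true) : sm m F A = 0 := by
  have hA' := wf_iff.1 hA
  unfold zr at h
  rw [List.all_eq_true] at h
  ext x y
  rw [Matrix.zero_apply]
  by_cases hxy : ∃ a ∈ A, ix m a.1 = x ∧ ix m a.2.1 = y
  · obtain ⟨a, ha, rfl, rfl⟩ := hxy
    rw [sm_apply_ix F hA (hA' a ha).1 (hA' a ha).2, of_decide_eq_true (h a ha), Int.cast_zero]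
  · push Not at hxy
    have : ∀ B : Sp, (∀ b ∈ B, b ∈ A) → sm m F B x y = 0 := by
      intro B hB
      induction B with
      | nil => rfl
      | cons b B ih =>
        rw [sm_cons, Matrix.add_apply, ih fun c hc => hB c (List.mem_cons_of_mem _ hc), add_zero, Matrix.single_apply, if_neg]
        rintro ⟨h1, h2⟩
        exact hxy b (hB b List.mem_cons_self) h1 h2
    exact this A fun _ h => h

end

/-! ### tables -/

/-- Tables: `im` : the subsystem (bit mask), `es` : the matrices of the root vectors, `hs` : twice the matrices of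
the simple coroots. -/
structure Tb where
  m : ℕ
  im : ℕ
  es : List Sp
  hs : List Sp

namespace Tb

variable (T : Tb) (D : ChevalleyDatum)

def In (r : ℕ) : Bool := T.im.testBit r
def E (r : ℕ) : Sp := T.es.getD r []
def H (i : ℕ) : Sp := T.hs.getD i []

/-- twice the matrix of the coroot `h_r` -/
def corS (r : ℕ) : Sp := (List.range D.rank).flatMap fun i => scl ((D.coroot.getD r #[]).getD i 0) (T.H i)

/-- the check for the pair `(r, s)`, `A` = matrix of `r`, `B` = matrix of `s` -/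
def chk1 (A B : Sp) : List (ℕ × ℤ) → Bool
  | [] => zr (mulS A B ++ scl (-1) (mulS B A)) && zr (mulS (mulS A B) A)
  | [(u, c)] => T.In u && (zr (mulS A B ++ (scl (-1) (mulS B A) ++ scl (-c) (T.E u))) && zr (mulS (mulS A B) A))
  | _ => false

/-- the check for the pair `(r, -r)` -/
def chkn (A B C : Sp) : Bool :=
  zr (scl 2 (mulS A B) ++ (scl (-2) (mulS B A) ++ scl (-1) C)) && zr (mulS (mulS A B) A ++ scl (-1) A)

/-- the check for the pair `(r, h_i)` -/
def chkh (A B : Sp) (c : ℤ) : Bool :=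
  zr (mulS A B ++ (scl (-1) (mulS B A) ++ scl (2 * c) A)) && zr (mulS (mulS A B) A)

/-- all facts on the tables -/
structure Ok : Prop where
  wfE : ∀ r, wf T.m (T.E r) = true
  wfH : ∀ i, wf T.m (T.H i) = true
  lt : ∀ r, T.In r = true → r < D.nroots
  out : ∀ r, T.In r = false → T.E r = []
  row : ∀ r, T.In r = true → ((row D r).map Prod.fst).Nodup
  neg : ∀ r, T.In r = true → T.In (D.neg r) = true ∧ D.neg r ≠ r
  sq : ∀ r, T.In r = true → zr (mulS (T.E r) (T.E r)) = true
  pr : ∀ r s, T.In r = true → T.In s = true → s ≠ r → s ≠ D.neg r → T.chk1 (T.E r) (T.E s) (D.chainEntry r s) = true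
  ng : ∀ r, T.In r = true → chkn (T.E r) (T.E (D.neg r)) (T.corS D r) = true
  hh : ∀ r i, T.In r = true → i < D.rank → chkh (T.E r) (T.H i) (D.cartan i r) = true

/-! ### a fast check -/

/-- the set of the keys of a row of the chain table -/
def mask (R : List (ℕ × Array (ℕ × ℤ))) : ℕ := R.foldr (fun e k => Nat.lor (2 ^ e.1) k) 0

theorem testBit_mask {R : List (ℕ × Array (ℕ × ℤ))} {s : ℕ} (h : (mask R).testBit s = true) : ∃ e ∈ R, e.1 = s := by
  induction R with
  | nil => simp [mask] at h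
  | cons e R ih =>
    have h1 : mask (e :: R) = 2 ^ e.1 ||| mask R := rfl
    rw [h1, Nat.testBit_or, Bool.or_eq_true, Nat.testBit_two_pow, decide_eq_true_eq] at h
    rcases h with h | h
    · exact ⟨e, List.mem_cons_self, h⟩
    · obtain ⟨e', h1, h2⟩ := ih h
      exact ⟨e', List.mem_cons_of_mem _ h1, h2⟩

/-- data of a root: the root, its negative, the mask of its row, masks of the rows and columns of the matrix, the matrix -/
structure Rw where
  r : ℕ
  n : ℕ
  K : ℕ
  rm : ℕ
  cm : ℕ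
  A : Sp

def Rw.ok (p : Rw) : Bool :=
  T.In p.r && Nat.beq (D.neg p.r) p.n && !(Nat.beq p.n p.r) && T.In p.n && decide (T.E p.r = p.A) &&
  (p.A.all fun a => p.rm.testBit a.1 && p.cm.testBit a.2.1) && zr (mulS p.A p.A) && chkn p.A (T.E p.n) (T.corS D p.r) &&
  ((List.range D.rank).all fun i => chkh p.A (T.H i) (D.cartan i p.r)) &&
  ((XColumns.row D p.r).all fun e => !T.In e.1 || T.chk1 p.A (T.E e.1) e.2.toList) && Nat.beq p.K (mask (XColumns.row D p.r))

def pairOk (p q : Rw) : Bool :=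
  p.K.testBit q.r || Nat.beq p.r q.r || Nat.beq q.r p.n ||
  (Nat.beq (Nat.land p.cm q.rm) 0 && Nat.beq (Nat.land q.cm p.rm) 0) ||
  (zr (mulS p.A q.A ++ scl (-1) (mulS q.A p.A)) && zr (mulS (mulS p.A q.A) p.A))

/-- the remaining checks -/
def okRest (n : ℕ) (rws : List Rw) : Bool :=
  ((List.range n).all fun s => !T.In s || rws.any fun p => Nat.beq s p.r) && Nat.blt T.im (2 ^ n) &&
  (T.es.all fun A => wf T.m A) && (T.hs.all fun A => wf T.m A) &&
  ((List.range T.es.length).all fun r => T.In r || (T.E r).isEmpty)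

theorem mulS_nil_of {p q : Rw} (hp : ∀ a ∈ p.A, p.cm.testBit a.2.1 = true) (hq : ∀ a ∈ q.A, q.rm.testBit a.1 = true)
    (h : Nat.land p.cm q.rm = 0) : mulS p.A q.A = [] := by
  unfold mulS
  rw [List.flatMap_eq_nil_iff]
  intro a ha
  rw [List.flatMap_eq_nil_iff]
  intro b hb
  cases hab : Nat.beq a.2.1 b.1
  · rfl
  · exfalso
    have h1 : a.2.1 = b.1 := Nat.eq_of_beq_eq_true hab
    have h2 : (p.cm &&& q.rm).testBit b.1 = true := by
      rw [Nat.testBit_and, ← h1, hp a ha, h1, hq b hb]; rfl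
    have h3 : p.cm &&& q.rm = 0 := h
    rw [h3, Nat.zero_testBit] at h2
    exact Bool.false_ne_true h2

theorem chainEntry_cases (D : ChevalleyDatum) (r s : ℕ) : (∃ e ∈ XColumns.row D r, e.1 = s ∧ D.chainEntry r s = e.2.toList) ∨
    ((∀ e ∈ XColumns.row D r, e.1 ≠ s) ∧ D.chainEntry r s = []) := by
  unfold ChevalleyDatum.chainEntry
  cases h : (D.chain.getD r #[]).toList.find? (fun e => decide (e.1 = s)) with
  | none =>
    right
    rw [List.find?_eq_none] at h
    exact ⟨fun e he h1 => h e he (decide_eq_true h1), rfl⟩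
  | some e =>
    left
    have h1 := List.find?_some h
    have h2 := List.mem_of_find?_eq_some h
    exact ⟨e, h2, of_decide_eq_true h1, rfl⟩

theorem ok_of {rws : List Rw} (h1 : rws.all (fun p => Rw.ok T D p) = true) (h2 : rws.all (fun p => rws.all fun q => pairOk p q) = true)
    (h3 : okRest T D.nroots rws = true) (hrow : ∀ r < D.nroots, ((XColumns.row D r).map Prod.fst).Nodup) : T.Ok D := by
  rw [List.all_eq_true] at h1 h2
  unfold okRest at h3
  simp only [Bool.and_eq_true, List.all_eq_true, List.mem_range, Bool.or_eq_true, Bool.not_eq_true', List.any_eq_true,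
    Nat.blt_eq] at h3
  obtain ⟨⟨⟨⟨ha, hb⟩, hc⟩, hd⟩, he⟩ := h3
  have hlt : ∀ r, T.In r = true → r < D.nroots := by
    intro r hr
    by_contra hge
    have h4 : T.im < 2 ^ r := lt_of_lt_of_le hb (Nat.pow_le_pow_right (by norm_num) (not_lt.1 hge))
    unfold In at hr
    rw [Nat.testBit_eq_false_of_lt h4] at hr
    exact Bool.false_ne_true hr
  have hex : ∀ r, T.In r = true → ∃ p ∈ rws, p.r = r := by
    intro r hr
    rcases ha r (hlt r hr) with h | ⟨p, hp, h⟩
    · rw [h] at hr; exact absurd hr Bool.false_ne_true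
    · exact ⟨p, hp, (Nat.eq_of_beq_eq_true h).symm⟩
  have hok : ∀ p ∈ rws, Rw.ok T D p = true := h1
  simp only [Rw.ok, Bool.and_eq_true, List.all_eq_true, List.mem_range, Bool.or_eq_true, Bool.not_eq_true',
    decide_eq_true_eq] at hok
  have hwf : ∀ (L : List Sp), (∀ A ∈ L, wf T.m A = true) → ∀ i, wf T.m (L.getD i []) = true := by
    intro L hL i
    rw [List.getD_eq_getElem?_getD]
    cases h : L[i]? with
    | none => rfl
    | some A => exact hL A (List.mem_of_getElem? h)
  refine ⟨hwf _ hc, hwf _ hd, hlt, fun r hr => ?_, fun r hr => hrow r (hlt r hr), fun r hr => ?_, fun r hr => ?_,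
    fun r s hr hs hsr hsn => ?_, fun r hr => ?_, fun r i hr hi => ?_⟩
  · by_cases hl : r < T.es.length
    · rcases he r hl with h | h
      · rw [hr] at h; exact absurd h Bool.false_ne_true
      · exact List.isEmpty_iff.1 h
    · unfold E
      rw [List.getD_eq_getElem?_getD, List.getElem?_eq_none (not_lt.1 hl)]
      rfl
  · obtain ⟨p, hp, rfl⟩ := hex r hr
    obtain ⟨⟨⟨⟨⟨⟨⟨⟨⟨⟨-, q1⟩, q2⟩, q3⟩, -⟩, -⟩, -⟩, -⟩, -⟩, -⟩, -⟩ := hok p hp
    have q4 := Nat.eq_of_beq_eq_true q1
    rw [q4]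
    refine ⟨q3, fun h => ?_⟩
    rw [h] at q2
    simp at q2
  · obtain ⟨p, hp, rfl⟩ := hex r hr
    obtain ⟨⟨⟨⟨⟨⟨⟨⟨⟨⟨-, -⟩, -⟩, -⟩, q1⟩, -⟩, q2⟩, -⟩, -⟩, -⟩, -⟩ := hok p hp
    rw [q1]; exact q2
  · obtain ⟨p, hp, rfl⟩ := hex r hr
    obtain ⟨q, hq, rfl⟩ := hex s hs
    obtain ⟨⟨⟨⟨⟨⟨⟨⟨⟨⟨-, p1⟩, -⟩, -⟩, p2⟩, p3⟩, -⟩, -⟩, -⟩, p4⟩, p5⟩ := hok p hp
    obtain ⟨⟨⟨⟨⟨⟨⟨⟨⟨⟨-, -⟩, -⟩, -⟩, q2⟩, q3⟩, -⟩, -⟩, -⟩, -⟩, -⟩ := hok q hq
    have hpq := h2 p hp
    rw [List.all_eq_true] at hpq
    have hpq := hpq q hq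
    have hnil : (∀ e ∈ XColumns.row D p.r, e.1 ≠ q.r) → T.chk1 (T.E p.r) (T.E q.r) [] = true := by
      intro hne
      unfold pairOk at hpq
      simp only [Bool.or_eq_true, Bool.and_eq_true] at hpq
      rcases hpq with (((h | h) | h) | ⟨h, h'⟩) | h
      · exfalso
        rw [Nat.eq_of_beq_eq_true p5] at h
        obtain ⟨e, he, h6⟩ := testBit_mask h
        exact hne e he h6
      · exact absurd (Nat.eq_of_beq_eq_true h).symm hsr
      · exact absurd ((Nat.eq_of_beq_eq_true h).trans (Nat.eq_of_beq_eq_true p1).symm) hsn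
      · have e1 : mulS p.A q.A = [] := mulS_nil_of (fun a ha => (p3 a ha).2) (fun a ha => (q3 a ha).1) (Nat.eq_of_beq_eq_true h)
        have e2 : mulS q.A p.A = [] := mulS_nil_of (fun a ha => (q3 a ha).2) (fun a ha => (p3 a ha).1) (Nat.eq_of_beq_eq_true h')
        rw [p2, q2]
        unfold chk1
        rw [e1, e2]; rfl
      · rw [p2, q2]
        unfold chk1
        rw [h.1, h.2]; rfl
    rcases chainEntry_cases D p.r q.r with ⟨e, he, h6, h7⟩ | ⟨h6, h7⟩
    · rw [h7]
      rcases p4 e he with h8 | h8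
      · rw [h6, hs] at h8; exact absurd h8.symm Bool.false_ne_true
      · rw [p2, ← h6]; exact h8
    · rw [h7]; exact hnil h6
  · obtain ⟨p, hp, rfl⟩ := hex r hr
    obtain ⟨⟨⟨⟨⟨⟨⟨⟨⟨⟨-, p1⟩, -⟩, -⟩, q1⟩, -⟩, -⟩, q2⟩, -⟩, -⟩, -⟩ := hok p hp
    rw [q1, Nat.eq_of_beq_eq_true p1]; exact q2
  · obtain ⟨p, hp, rfl⟩ := hex r hr
    obtain ⟨⟨⟨⟨⟨⟨⟨⟨⟨⟨-, -⟩, -⟩, -⟩, q1⟩, -⟩, -⟩, -⟩, q2⟩, -⟩, -⟩ := hok p hp
    rw [q1]; exact q2 i hi

end Tb

/-! ### the map -/

section

/-- the matrices -/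
abbrev Mt (T : Tb) (F : Type u) : Type u := Matrix (Fin T.m ⊕ Fin T.m) (Fin T.m ⊕ Fin T.m) F

variable (T : Tb) [NeZero T.m] (D : ChevalleyDatum) (F : Type u) [Field F]

/-- the matrices of the basis vectors -/
def Bm : D.Idx → Mt T F
  | Sum.inl i => sm T.m F (T.H i)
  | Sum.inr s => (2 : F) • sm T.m F (T.E s)

/-- twice the natural representation (on the Lie algebra of the subsystem) -/
noncomputable def Th : (D.Idx → F) →ₗ[F] Mt T F := Fintype.linearCombination F (Bm T D F)

theorem Th_apply (v : D.Idx → F) : Th T D F v = ∑ j, v j • Bm T D F j := Fintype.linearCombination_apply F (Bm T D F) v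

theorem Th_single (j : D.Idx) : Th T D F (Pi.single j 1) = Bm T D F j := by
  rw [Th, Fintype.linearCombination_apply_single, one_smul]

theorem Th_ev {s : ℕ} (hs : s < D.nroots) : Th T D F (ev D F s) = (2 : F) • sm T.m F (T.E s) := by
  rw [ev_eq_single hs, Th_single]; rfl

theorem Th_hv {i : ℕ} (hi : i < D.rank) : Th T D F (hv D F i) = sm T.m F (T.H i) := by
  rw [hv_eq_single hi, Th_single]; rfl

theorem sum_list_range {A : Type*} [AddCommMonoid A] (f : ℕ → A) (n : ℕ) :
    ((List.range n).map f).sum = ∑ i : Fin n, f i := by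
  induction n with
  | zero => simp
  | succ n ih => rw [List.range_succ, List.map_append, List.sum_append, ih, Fin.sum_univ_castSucc]; simp

theorem Th_corv (r : ℕ) : Th T D F (corv D F r) = sm T.m F (T.corS D r) := by
  rw [Th_apply, Fintype.sum_sum_type]
  have h1 : ∑ x : Fin D.nroots, corv D F r (Sum.inr x) • Bm T D F (Sum.inr x) = 0 :=
    Finset.sum_eq_zero fun x _ => by rw [corv_inr, zero_smul]
  rw [h1, add_zero, Tb.corS, sm_flatMap, sum_list_range]
  refine Finset.sum_congr rfl fun i _ => ?_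
  rw [corv_inl, sm_scl]; rfl

variable {T D F}

/-- the Lie algebra of the subsystem -/
def Lp (T : Tb) (D : ChevalleyDatum) (F : Type u) [Field F] : Submodule F (D.Idx → F) where
  carrier := {v | ∀ s : Fin D.nroots, T.In s = false → v (Sum.inr s) = 0}
  add_mem' {v w} hv hw s hs := by rw [Pi.add_apply, hv s hs, hw s hs, add_zero]
  zero_mem' s _ := rfl
  smul_mem' c v hv s hs := by rw [Pi.smul_apply, hv s hs, smul_zero]

theorem mem_Lp {v : D.Idx → F} : v ∈ Lp T D F ↔ ∀ s : Fin D.nroots, T.In s = false → v (Sum.inr s) = 0 := Iff.rfl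

theorem dec_vec (v : D.Idx → F) : v = ∑ i : Fin D.rank, v (Sum.inl i) • hv D F i + ∑ s : Fin D.nroots, v (Sum.inr s) • ev D F s := by
  funext j
  rw [Pi.add_apply, Finset.sum_apply, Finset.sum_apply]
  rcases j with j | j
  · rw [Finset.sum_eq_single j, Finset.sum_eq_zero, add_zero]
    · simp
    · intro s _; simp
    · intro i _ hi
      simp [Fin.val_ne_of_ne (Ne.symm hi)]
    · intro h; exact absurd (Finset.mem_univ j) h
  · rw [Finset.sum_eq_zero, Finset.sum_eq_single j, zero_add]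
    · simp
    · intro i _ hi
      simp [Fin.val_ne_of_ne (Ne.symm hi)]
    · intro h; exact absurd (Finset.mem_univ j) h
    · intro s _; simp

/-- `Lp` is spanned by the basis vectors -/
theorem Lp_ind {P : (D.Idx → F) → Prop} (h0 : P 0) (ha : ∀ v w, P v → P w → P (v + w)) (hs : ∀ (c : F) v, P v → P (c • v))
    (hh : ∀ i < D.rank, P (hv D F i)) (he : ∀ s < D.nroots, T.In s = true → P (ev D F s)) {v : D.Idx → F} (hv : v ∈ Lp T D F) :
    P v := by
  rw [dec_vec v]
  have hsum : ∀ {n : ℕ} (f : Fin n → (D.Idx → F)), (∀ i, P (f i)) → P (∑ i, f i) := by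
    intro n f hf
    exact Finset.sum_induction f P ha h0 fun i _ => hf i
  refine ha _ _ (hsum _ fun i => hs _ _ (hh i i.2)) (hsum _ fun s => ?_)
  by_cases hi : T.In s = true
  · exact hs _ _ (he s s.2 hi)
  · rw [hv s (by simpa using hi), zero_smul]
    exact h0

theorem hv_mem {i : ℕ} : hv D F i ∈ Lp T D F := fun s _ => hv_inr i s

theorem ev_mem {u : ℕ} (hu : T.In u = true) : ev D F u ∈ Lp T D F := by
  intro s hs
  rw [ev_inr, if_neg]
  intro h
  rw [← h, hs] at hu
  exact Bool.false_ne_true hu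

theorem corv_mem {r : ℕ} : corv D F r ∈ Lp T D F := fun s _ => corv_inr r s

theorem conj_eq {n : Type*} [Fintype n] [DecidableEq n] {A S P Q : Matrix n n F} (t : F) (h1 : A * S - S * A = P)
    (h2 : A * S * A = Q) : (1 + t • A) * S * (1 - t • A) = S + t • P - t ^ 2 • Q := by
  rw [← h1, ← h2]
  simp only [add_mul, mul_sub, mul_one, one_mul, smul_mul_assoc, mul_smul_comm, smul_sub, smul_add, smul_smul, mul_assoc,
    pow_two]
  abel

/-- the root elements of the subsystem -/
theorem Tb.Ok.root (O : T.Ok D) {r : ℕ} (hr : T.In r = true) (t : F) {v : D.Idx → F} (hv : v ∈ Lp T D F) :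
    D.x F r t *ᵥ v ∈ Lp T D F ∧
      Th T D F (D.x F r t *ᵥ v) = (1 + t • sm T.m F (T.E r)) * Th T D F v * (1 - t • sm T.m F (T.E r)) := by
  have hrl := O.lt r hr
  obtain ⟨hnr, hnr'⟩ := O.neg r hr
  set A := sm T.m F (T.E r) with hA
  refine Lp_ind (P := fun v => D.x F r t *ᵥ v ∈ Lp T D F ∧
    Th T D F (D.x F r t *ᵥ v) = (1 + t • A) * Th T D F v * (1 - t • A)) ?_ ?_ ?_ ?_ ?_ hv
  · rw [Matrix.mulVec_zero, map_zero, mul_zero, zero_mul]
    exact ⟨Submodule.zero_mem _, rfl⟩
  · rintro v w ⟨h1, h2⟩ ⟨h3, h4⟩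
    rw [Matrix.mulVec_add, map_add, map_add, h2, h4, mul_add _ (Th T D F v), add_mul _ _ (1 - t • A)]
    exact ⟨Submodule.add_mem _ h1 h3, rfl⟩
  · rintro c v ⟨h1, h2⟩
    rw [Matrix.mulVec_smul, map_smul, map_smul, h2, mul_smul_comm, smul_mul_assoc]
    exact ⟨Submodule.smul_mem _ _ h1, rfl⟩
  · intro i hi
    have h1 := O.hh r i hr hi
    unfold Tb.chkh at h1
    rw [Bool.and_eq_true] at h1
    have h2 := sm_zr F (wf_append.2 ⟨wf_mulS (O.wfE r) (O.wfH i), wf_append.2 ⟨wf_scl (wf_mulS (O.wfH i) (O.wfE r)),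
      wf_scl (O.wfE r)⟩⟩) h1.1
    have h3 := sm_zr F (wf_mulS (wf_mulS (O.wfE r) (O.wfH i)) (O.wfE r)) h1.2
    rw [sm_append, sm_append, sm_scl, sm_scl, sm_mulS F (O.wfE r) (O.wfH i), sm_mulS F (O.wfH i) (O.wfE r)] at h2
    rw [sm_mulS F (wf_mulS (O.wfE r) (O.wfH i)) (O.wfE r), sm_mulS F (O.wfE r) (O.wfH i)] at h3
    rw [x_mulVec_hv hrl hi, map_sub, map_smul, Th_hv T D F hi, Th_ev T D F hrl]
    refine ⟨Submodule.sub_mem _ hv_mem (Submodule.smul_mem _ _ (ev_mem hr)), ?_⟩
    rw [conj_eq t (P := -((2 * (D.cartan i r : F)) • A)) ?_ h3, smul_zero, sub_zero]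
    · rw [← hA, smul_neg, smul_smul, smul_smul, sub_eq_add_neg]
      congr 3
      ring
    · rw [← hA, Int.cast_neg, Int.cast_one, neg_one_smul, Int.cast_mul, Int.cast_ofNat] at h2
      rw [eq_neg_iff_add_eq_zero, ← h2]
      abel
  · intro s hsl hsi
    by_cases hsr : s = r
    · subst hsr
      rw [x_mulVec_ev_self hrl]
      refine ⟨ev_mem hr, ?_⟩
      have h2 := sm_zr F (wf_mulS (O.wfE s) (O.wfE s)) (O.sq s hr)
      rw [sm_mulS F (O.wfE s) (O.wfE s), ← hA] at h2
      rw [Th_ev T D F hrl, ← hA]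
      rw [conj_eq t (P := 0) (Q := 0), smul_zero, smul_zero, add_zero, sub_zero]
      · rw [mul_smul_comm, smul_mul_assoc, h2, smul_zero, sub_self]
      · rw [mul_smul_comm, h2, smul_zero, zero_mul]
    · have hwfc : wf T.m (T.corS D r) = true := by
        rw [wf_iff]
        intro x hx
        obtain ⟨i, -, hx⟩ := List.mem_flatMap.1 hx
        exact wf_iff.1 (wf_scl (O.wfH i)) x hx
      by_cases hsn : s = D.neg r
      · subst hsn
        have h1' := O.ng r hr
        unfold Tb.chkn at h1'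
        rw [Bool.and_eq_true] at h1'
        have h2 := sm_zr F (wf_append.2 ⟨wf_scl (wf_mulS (O.wfE r) (O.wfE _)), wf_append.2 ⟨wf_scl (wf_mulS (O.wfE _) (O.wfE r)),
          wf_scl hwfc⟩⟩) h1'.1
        have h3 := sm_zr F (wf_append.2 ⟨wf_mulS (wf_mulS (O.wfE r) (O.wfE _)) (O.wfE r), wf_scl (O.wfE r)⟩) h1'.2
        rw [sm_append, sm_append, sm_scl, sm_scl, sm_scl, sm_mulS F (O.wfE r) (O.wfE _), sm_mulS F (O.wfE _) (O.wfE r)] at h2
        rw [sm_append, sm_scl, sm_mulS F (wf_mulS (O.wfE r) (O.wfE _)) (O.wfE r), sm_mulS F (O.wfE r) (O.wfE _)] at h3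
        rw [x_mulVec_ev_neg hrl hsl hnr', map_sub, map_add, map_smul, map_smul, Th_ev T D F hsl, Th_ev T D F hrl, Th_corv]
        refine ⟨Submodule.sub_mem _ (Submodule.add_mem _ (ev_mem hsi) (Submodule.smul_mem _ _ corv_mem))
          (Submodule.smul_mem _ _ (ev_mem hr)), ?_⟩
        rw [← hA, Int.cast_neg, Int.cast_neg, Int.cast_one, neg_one_smul, Int.cast_ofNat] at h2
        rw [← hA, Int.cast_neg, Int.cast_one, neg_one_smul] at h3
        rw [← hA, conj_eq t (P := sm T.m F (T.corS D r)) (Q := (2 : F) • A)]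
        · rw [mul_smul_comm, smul_mul_assoc]
          have h4 := h2
          rw [neg_smul] at h4
          rw [← sub_eq_zero, ← h4]
          abel
        · rw [mul_smul_comm, smul_mul_assoc, add_neg_eq_zero.1 h3]
      · have h1' := O.pr r s hr hsi hsr hsn
        rw [x_mulVec_ev hrl hsl hsr hsn (O.row r hr)]
        rcases hce : D.chainEntry r s with _ | ⟨⟨u, c⟩, _ | ⟨q, L⟩⟩
        · rw [hce] at h1'
          unfold Tb.chk1 at h1'
          rw [Bool.and_eq_true] at h1'
          have h2 := sm_zr F (wf_append.2 ⟨wf_mulS (O.wfE r) (O.wfE s), wf_scl (wf_mulS (O.wfE s) (O.wfE r))⟩) h1'.1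
          have h3 := sm_zr F (wf_mulS (wf_mulS (O.wfE r) (O.wfE s)) (O.wfE r)) h1'.2
          rw [sm_append, sm_scl, sm_mulS F (O.wfE r) (O.wfE s), sm_mulS F (O.wfE s) (O.wfE r), ← hA, Int.cast_neg,
            Int.cast_one, neg_one_smul] at h2
          rw [sm_mulS F (wf_mulS (O.wfE r) (O.wfE s)) (O.wfE r), sm_mulS F (O.wfE r) (O.wfE s), ← hA] at h3
          simp only [List.zipIdx_nil, List.map_nil, List.sum_nil, add_zero]
          refine ⟨ev_mem hsi, ?_⟩
          rw [Th_ev T D F hsl, conj_eq t (P := 0) (Q := 0), smul_zero, smul_zero, add_zero, sub_zero]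
          · rw [mul_smul_comm, smul_mul_assoc, ← smul_sub, sub_eq_add_neg, h2, smul_zero]
          · rw [mul_smul_comm, smul_mul_assoc, h3, smul_zero]
        · rw [hce] at h1'
          unfold Tb.chk1 at h1'
          rw [Bool.and_eq_true, Bool.and_eq_true] at h1'
          have hu := O.lt u h1'.1
          have h2 := sm_zr F (wf_append.2 ⟨wf_mulS (O.wfE r) (O.wfE s), wf_append.2 ⟨wf_scl (wf_mulS (O.wfE s) (O.wfE r)),
            wf_scl (O.wfE u)⟩⟩) h1'.2.1
          have h3 := sm_zr F (wf_mulS (wf_mulS (O.wfE r) (O.wfE s)) (O.wfE r)) h1'.2.2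
          rw [sm_append, sm_append, sm_scl, sm_scl, sm_mulS F (O.wfE r) (O.wfE s), sm_mulS F (O.wfE s) (O.wfE r), ← hA,
            Int.cast_neg, Int.cast_one, neg_one_smul, Int.cast_neg] at h2
          rw [sm_mulS F (wf_mulS (O.wfE r) (O.wfE s)) (O.wfE r), sm_mulS F (O.wfE r) (O.wfE s), ← hA] at h3
          simp only [List.zipIdx_cons, List.zipIdx_nil, List.map_cons, List.map_nil, List.sum_cons, List.sum_nil, add_zero,
            zero_add, pow_one]
          refine ⟨Submodule.add_mem _ (ev_mem hsi) (Submodule.smul_mem _ _ (ev_mem h1'.1)), ?_⟩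
          rw [map_add, map_smul, Th_ev T D F hsl, Th_ev T D F hu, conj_eq t (P := (c : F) • (2 : F) • sm T.m F (T.E u)) (Q := 0),
            smul_zero, sub_zero]
          · rw [smul_smul, smul_smul, smul_smul]
            congr 2
            ring
          · rw [mul_smul_comm, smul_mul_assoc, ← smul_sub, smul_comm, ← sub_eq_zero, ← smul_sub]
            rw [neg_smul, ← add_assoc] at h2
            rw [sub_eq_add_neg, sub_eq_add_neg, h2, smul_zero]
          · rw [mul_smul_comm, smul_mul_assoc, h3, smul_zero]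
        · rw [hce] at h1'
          simp [Tb.chk1] at h1'

end

end Cfsg.Agent.H736.Co3
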